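import Mathlib
import Cfsg.Prelude.Def_EvenType

/-!
# Parity: an involutory automorphism fixes an involution of every centralizer of even order (helper291)

* `exists_fixed_invo` : `t ∈ MulAut C`, `t² = 1`, `|C|` even: `t` fixes an involution of `C`;
* `exists_comm_invo` : `t ∈ MulAut X`, `t² = 1`, `t w = w`, `|C_X(w)|` even: an involution `u` of `X` with `t u = u`,
  `u w = w u`;
* `even_cent_of_small` : if the prime `r` divides `|X|` exactly once and divides the order of `C_X(u)` for an
  involution `u`, then every element of order `r` has a centralizer of even order.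
-/

set_option autoImplicit false

namespace Cfsg.Agent.H291.Parity

open Subgroup
open scoped Pointwise

universe u

/-- two commuting involutory permutations of a finite set of even cardinality with a common fixed point have a second
common fixed point -/
theorem exists_second {α : Type u} [Finite α] (f g : Equiv.Perm α) (hf : f * f = 1) (hg : g * g = 1)
    (hfg : f * g = g * f) (he : Even (Nat.card α)) (a : α) (hfa : f a = a) (hga : g a = a) :
    ∃ b, b ≠ a ∧ f b = b ∧ g b = b := by
  classical
  have := Fintype.ofFinite α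
  have key : ∀ {β : Type u} [Finite β] (h : Equiv.Perm β), h * h = 1 →
      Nat.card β ≡ Nat.card (Function.fixedPoints h) [MOD 2] := by
    intro β _ h hh
    have := Fintype.ofFinite β
    let f : Function.End β := fun x => h x
    have h1 : f ^ 2 ^ 1 = 1 := by
      funext x
      exact congrArg (fun k : Equiv.Perm β => k x) hh
    have : Fact (Nat.Prime 2) := ⟨Nat.prime_two⟩
    rw [Nat.card_eq_fintype_card, Nat.card_eq_fintype_card]
    exact Equiv.Perm.card_fixedPoints_modEq (f := f) (p := 2) (n := 1) h1
  have h1 := key f hf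
  -- `g` acts on the fixed points of `f`
  have hst : ∀ x, f x = x ↔ f (g x) = g x := by
    intro x
    have h2 : f (g x) = g (f x) := congrArg (fun k : Equiv.Perm α => k x) hfg
    rw [h2]
    exact ⟨fun h => by rw [h], fun h => g.injective h⟩
  let g' : Equiv.Perm (Function.fixedPoints f) := g.subtypePerm (fun x => by
    exact (hst x).symm)
  have hg' : g' * g' = 1 :=
    Equiv.ext fun x => Subtype.ext (congrArg (fun k : Equiv.Perm α => k x.1) hg)
  have h3 := key g' hg'
  have h4 : Even (Nat.card (Function.fixedPoints g')) := by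
    rw [Nat.even_iff] at he ⊢
    have h5 := h1.trans h3
    rw [Nat.ModEq] at h5
    exact h5.symm.trans he
  have ha : a ∈ Function.fixedPoints f := hfa
  have ha' : (⟨a, ha⟩ : Function.fixedPoints f) ∈ Function.fixedPoints g' := Subtype.ext hga
  have : Nonempty (Function.fixedPoints g') := ⟨⟨_, ha'⟩⟩
  have h5 : 0 < Nat.card (Function.fixedPoints g') := Nat.card_pos
  have h6 : 1 < Nat.card (Function.fixedPoints g') := by
    obtain ⟨k, hk⟩ := h4
    omega
  have h7 := (Finite.one_lt_card_iff_nontrivial).1 h6
  obtain ⟨b, hb⟩ := exists_ne (⟨⟨a, ha⟩, ha'⟩ : Function.fixedPoints g')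
  refine ⟨b.1.1, fun h => hb (Subtype.ext (Subtype.ext h)), b.1.2, ?_⟩
  exact congrArg Subtype.val b.2

/-- an involutory automorphism of a finite group of even order fixes an involution -/
theorem exists_fixed_invo {C : Type u} [Group C] [Finite C] (t : MulAut C) (ht : t * t = 1) (he : Even (Nat.card C)) :
    ∃ u : C, u ≠ 1 ∧ u * u = 1 ∧ t u = u := by
  obtain ⟨b, hb, h1, h2⟩ := exists_second (Equiv.inv C) t.toEquiv (by ext x; simp)
    (by ext x; exact congrArg (fun k : MulAut C => k x) ht) (by ext x; simp) he 1 (by simp) (by simp)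
  refine ⟨b, hb, ?_, h2⟩
  have : b⁻¹ = b := h1
  nth_rewrite 1 [← this]
  exact inv_mul_cancel b

/-- the restriction of an automorphism to the centralizer of a fixed element -/
theorem exists_comm_invo {X : Type u} [Group X] [Finite X] (t : MulAut X) (ht : t * t = 1) {w : X} (hw : t w = w)
    (he : Even (Nat.card ↥(centralizer ({w} : Set X)))) : ∃ u : X, orderOf u = 2 ∧ t u = u ∧ u * w = w * u := by
  have hmap : ∀ x : X, x ∈ centralizer ({w} : Set X) → t x ∈ centralizer ({w} : Set X) := by
    intro x hx
    rw [mem_centralizer_singleton_iff] at hx ⊢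
    rw [← hw, ← map_mul, ← map_mul, hx]
  let f : ↥(centralizer ({w} : Set X)) →* ↥(centralizer ({w} : Set X)) :=
    { toFun := fun x => ⟨t x.1, hmap x.1 x.2⟩
      map_one' := Subtype.ext (map_one t)
      map_mul' := fun x y => Subtype.ext (map_mul t x.1 y.1) }
  have hff : ∀ x, f (f x) = x := fun x => Subtype.ext (congrArg (fun k : MulAut X => k x.1) ht)
  let T : MulAut ↥(centralizer ({w} : Set X)) :=
    { f with
      invFun := f
      left_inv := hff
      right_inv := hff }
  obtain ⟨u, hu1, hu2, hu3⟩ := exists_fixed_invo T (by ext x; exact congrArg Subtype.val (hff x)) he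
  refine ⟨u.1, orderOf_eq_prime ?_ ?_, congrArg Subtype.val hu3, ?_⟩
  · rw [pow_two]
    exact congrArg Subtype.val hu2
  · exact fun h => hu1 (Subtype.ext h)
  · exact mem_centralizer_singleton_iff.1 u.2

/-- all the elements of order `r` have a centralizer of even order if one involution commutes with an element of order
`r` and `r² ∤ |X|` -/
theorem even_cent_of_small {X : Type u} [Group X] [Finite X] {r : ℕ} (hr : r.Prime) (h2 : ¬ r ^ 2 ∣ Nat.card X) {u : X}
    (hu : orderOf u = 2) (hdvd : r ∣ Nat.card ↥(centralizer ({u} : Set X))) {w : X} (hw : orderOf w = r) :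
    Even (Nat.card ↥(centralizer ({w} : Set X))) := by
  have : Fact r.Prime := ⟨hr⟩
  obtain ⟨v, hv⟩ := exists_prime_orderOf_dvd_card' (G := ↥(centralizer ({u} : Set X))) r hdvd
  have hv' : orderOf v.1 = r := by rw [Subgroup.orderOf_coe, hv]
  -- the subgroups of order `r` are Sylow
  have hfac : (Nat.card X).factorization r = 1 := by
    have h3 : r ∣ Nat.card X := hw ▸ orderOf_dvd_natCard w
    have h4 : 1 ≤ (Nat.card X).factorization r :=
      (hr.dvd_iff_one_le_factorization (Nat.card_pos.ne')).1 h3
    have h5 : ¬ 2 ≤ (Nat.card X).factorization r := fun h =>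
      h2 ((hr.pow_dvd_iff_le_factorization (Nat.card_pos.ne')).2 h)
    omega
  have hsy : ∀ x : X, orderOf x = r → ∃ P : Sylow r X, (P : Subgroup X) = zpowers x := by
    intro x hx
    refine ⟨Sylow.ofCard (zpowers x) ?_, rfl⟩
    rw [Nat.card_zpowers, hx, hfac, pow_one]
  obtain ⟨P, hP⟩ := hsy w hw
  obtain ⟨Q, hQ⟩ := hsy v.1 hv'
  obtain ⟨g, hg⟩ := MulAction.exists_smul_eq X Q P
  have h3 : w ∈ (g • Q : Sylow r X).toSubgroup := by rw [hg, hP]; exact mem_zpowers w
  have h4 : g⁻¹ * w * g ∈ (Q : Subgroup X) := by
    have h5 : w ∈ g • Q := h3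
    have h6 := Subgroup.mem_pointwise_smul_iff_inv_smul_mem.1 (show w ∈ MulAut.conj g • (Q : Subgroup X) from h5)
    simpa [MulAut.smul_def] using h6
  rw [hQ, mem_zpowers_iff] at h4
  obtain ⟨k, hk⟩ := h4
  have hc : v.1 * u = u * v.1 := (mem_centralizer_singleton_iff.1 v.2)
  have h5 : u * (g⁻¹ * w * g) = (g⁻¹ * w * g) * u := by
    rw [← hk]
    exact ((Commute.zpow_left (show Commute v.1 u from hc) k).eq).symm
  have h6 : g * u * g⁻¹ ∈ centralizer ({w} : Set X) := by
    rw [mem_centralizer_singleton_iff]
    calc g * u * g⁻¹ * w = g * (u * (g⁻¹ * w * g)) * g⁻¹ := by group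
      _ = g * ((g⁻¹ * w * g) * u) * g⁻¹ := by rw [h5]
      _ = w * (g * u * g⁻¹) := by group
  rw [even_iff_two_dvd]
  have h7 : orderOf (⟨g * u * g⁻¹, h6⟩ : ↥(centralizer ({w} : Set X))) = 2 := by
    rw [Subgroup.orderOf_mk]
    have : g * u * g⁻¹ = MulAut.conj g u := rfl
    rw [this, MulEquiv.orderOf_eq, hu]
  rw [← h7]
  exact orderOf_dvd_natCard _

end Cfsg.Agent.H291.Parity
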