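import Cfsg.Agent.H58.HeOdd

/-!
# `He`: the elements of order 5 commute with involutions (helper291)

`⟨x5, y5⟩` is a Sylow 5-subgroup; for each of its six subgroups of order 5 a commuting involution is given by a word.
-/

set_option autoImplicit false
set_option maxRecDepth 100000

namespace Cfsg.Agent.H291.HeFive

open Subgroup Cfsg.Spor Cfsg.Spor.He Cfsg.Agent.SporadicB.HePerm Cfsg.Agent.FixBN.HeStab
open Cfsg.Agent.H58.HeOdd

/-- word -/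
def w0 : List Gen := [.g, .d, .f, .e, .d, .b, .c, .d, .c, .b]
/-- word -/
def w1 : List Gen := [.b, .c, .d, .e, .b, .c, .d, .g, .c, .d, .c, .b]
/-- word -/
def w2 : List Gen := [.c, .d, .f, .g, .a, .b, .c, .d, .c, .d, .b, .c, .d, .c, .b]
/-- word -/
def w3 : List Gen := [.f, .b, .c, .d, .a, .b, .c, .d, .f, .c, .d, .c, .b]
/-- word -/
def w4 : List Gen := [.d, .f, .g, .d, .a, .b, .c, .d, .f, .b, .c, .d, .c, .b]
/-- word -/
def w5 : List Gen := [.g, .c, .d, .b, .c, .d, .f, .d, .b, .c, .d, .c, .b]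

/-- the involution `w a w⁻¹` -/
def iw (w : List Gen) : List Gen := cj w [.a]

theorem chk : (chkB (iw w0 ++ x5) (x5 ++ iw w0) && chkB (iw w1 ++ y5) (y5 ++ iw w1) &&
    chkB (iw w2 ++ (x5 ++ y5)) ((x5 ++ y5) ++ iw w2) && chkB (iw w3 ++ (pw x5 2 ++ y5)) ((pw x5 2 ++ y5) ++ iw w3) &&
    chkB (iw w4 ++ (pw x5 3 ++ y5)) ((pw x5 3 ++ y5) ++ iw w4) &&
    chkB (iw w5 ++ (pw x5 4 ++ y5)) ((pw x5 4 ++ y5) ++ iw w5)) = true := by
  decide +kernel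

/-- `z` commutes with an involution -/
def Inv (z : Cfsg.Spor.He) : Prop := ∃ u : Cfsg.Spor.He, orderOf u = 2 ∧ u * z = z * u

theorem inv_of {w v : List Gen} (h : chkB (iw w ++ v) (v ++ iw w) = true) : Inv (wd v) := by
  refine ⟨wd (iw w), ?_, ?_⟩
  · have ha : (wd [.a] : Cfsg.Spor.He) * wd [.a] = 1 := by
      have := of_sq Gen.a
      simpa [wd] using this
    have ha1 : (wd [.a] : Cfsg.Spor.He) ≠ 1 := by
      have h1 : chkB [.a] [] = false := by decide +kernel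
      exact ne_of_chkB h1
    have h2 : orderOf (wd [.a] : Cfsg.Spor.He) = 2 := orderOf_eq_prime (by rw [pow_two, ha]) ha1
    unfold iw
    rw [wd_cj, ← h2]
    exact MulEquiv.orderOf_eq (MulAut.conj (wd w)) (wd [.a])
  · have h1 := eq_of_chkB h
    rwa [wd_app, wd_app] at h1

theorem Inv.pow {z : Cfsg.Spor.He} (h : Inv z) (n : ℕ) : Inv (z ^ n) := by
  obtain ⟨u, hu, huz⟩ := h
  exact ⟨u, hu, (Commute.pow_right huz n)⟩

theorem Inv.conj {z : Cfsg.Spor.He} (h : Inv z) (g : Cfsg.Spor.He) : Inv (g * z * g⁻¹) := by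
  obtain ⟨u, hu, huz⟩ := h
  refine ⟨g * u * g⁻¹, ?_, ?_⟩
  · rw [← hu]
    exact MulEquiv.orderOf_eq (MulAut.conj g) u
  · calc g * u * g⁻¹ * (g * z * g⁻¹) = g * (u * z) * g⁻¹ := by group
      _ = g * (z * u) * g⁻¹ := by rw [huz]
      _ = _ := by group

theorem rel : (wd x5 : Cfsg.Spor.He) ^ 5 = 1 ∧ (wd y5 : Cfsg.Spor.He) ^ 5 = 1 ∧ wd x5 * wd y5 = (wd y5 * wd x5 : Cfsg.Spor.He) ∧
    (wd x5 : Cfsg.Spor.He) ≠ 1 ∧ (wd y5 : Cfsg.Spor.He) ∉ zpowers (wd x5 : Cfsg.Spor.He) := by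
  have h := c5
  simp only [Bool.and_eq_true, Bool.not_eq_true'] at h
  obtain ⟨⟨⟨⟨⟨⟨⟨⟨⟨⟨h1, h2⟩, h3⟩, h4⟩, h5⟩, n1⟩, n2⟩, n3⟩, n4⟩, n5⟩, n6⟩ := h
  have e1 : wd x5 ^ 5 = 1 := by rw [← wd_pw]; exact eq_of_chkB h1
  have e2 : wd y5 ^ 5 = 1 := by rw [← wd_pw]; exact eq_of_chkB h2
  have e3 : wd x5 * wd y5 = wd y5 * wd x5 := by
    rw [← wd_app, ← wd_app]; exact eq_of_chkB h3
  have m1 : wd x5 ≠ 1 := by rw [← wd_nil']; exact ne_of_chkB n1
  have m2 : wd y5 ≠ 1 := by rw [← wd_nil']; exact ne_of_chkB n2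
  have m3 : wd y5 ≠ wd x5 := ne_of_chkB n3
  have m4 : wd y5 ≠ wd x5 ^ 2 := by rw [← wd_pw]; exact ne_of_chkB n4
  have m5 : wd y5 ≠ wd x5 ^ 3 := by rw [← wd_pw]; exact ne_of_chkB n5
  have m6 : wd y5 ≠ wd x5 ^ 4 := by rw [← wd_pw]; exact ne_of_chkB n6
  refine ⟨e1, e2, e3, m1, fun hm => ?_⟩
  obtain ⟨n, hn⟩ := Subgroup.mem_zpowers_iff.1 hm
  have h6 : wd x5 ^ (n % 5) = wd y5 := by
    rw [← hn]
    conv_rhs => rw [← Int.emod_add_mul_ediv n 5, zpow_add, zpow_mul]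
    rw [show (wd x5 : Cfsg.Spor.He) ^ (5 : ℤ) = wd x5 ^ 5 from rfl, e1, one_zpow, mul_one]
  have h7 : 0 ≤ n % 5 := Int.emod_nonneg _ (by norm_num)
  have h8 : n % 5 < 5 := Int.emod_lt_of_pos _ (by norm_num)
  have h9 : n % 5 = 0 ∨ n % 5 = 1 ∨ n % 5 = 2 ∨ n % 5 = 3 ∨ n % 5 = 4 := by omega
  rcases h9 with h9 | h9 | h9 | h9 | h9 <;> rw [h9] at h6
  · rw [zpow_zero] at h6; exact m2 h6.symm
  · rw [zpow_one] at h6; exact m3 h6.symm
  · exact m4 h6.symm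
  · exact m5 h6.symm
  · exact m6 h6.symm

/-- the elements `x^i y^j` -/
theorem inv_xy (i j : ℕ) (hi : i < 5) (hj : j < 5) : Inv ((wd x5 : Cfsg.Spor.He) ^ i * wd y5 ^ j) := by
  obtain ⟨e1, e2, e3, -, -⟩ := rel
  have h := chk
  simp only [Bool.and_eq_true] at h
  obtain ⟨⟨⟨⟨⟨h0, h1⟩, h2⟩, h3⟩, h4⟩, h5⟩ := h
  have i0 := inv_of h0
  have i1 := inv_of h1
  have i2 := inv_of h2
  have i3 := inv_of h3
  have i4 := inv_of h4
  have i5 := inv_of h5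
  rw [wd_app] at i2
  rw [wd_app, wd_pw] at i3 i4 i5
  have key : ∀ a b : ℕ, ((wd x5 : Cfsg.Spor.He) ^ a * wd y5) ^ b = wd x5 ^ (a * b) * wd y5 ^ b := by
    intro a b
    have hc : Commute ((wd x5 : Cfsg.Spor.He) ^ a) (wd y5) := Commute.pow_left e3 a
    rw [hc.mul_pow, ← pow_mul]
  have red : ∀ a : ℕ, (wd x5 : Cfsg.Spor.He) ^ a = wd x5 ^ (a % 5) := by
    intro a
    conv_lhs => rw [← Nat.div_add_mod a 5, pow_add, pow_mul, e1, one_pow, one_mul]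
  have all : ∀ a, a < 5 → ∀ b, 0 < b → Inv ((wd x5 : Cfsg.Spor.He) ^ ((a * b) % 5) * wd y5 ^ b) := by
    intro a ha b _
    rw [← red, ← key]
    apply Inv.pow
    interval_cases a
    · rw [pow_zero, one_mul]; exact i1
    · rw [pow_one]; exact i2
    · exact i3
    · exact i4
    · exact i5
  rcases Nat.eq_zero_or_pos j with h0 | h0
  · subst h0
    rw [pow_zero, mul_one]
    exact i0.pow i
  · have hex : ∃ a < 5, (a * j) % 5 = i := by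
      interval_cases j <;> interval_cases i <;> decide
    obtain ⟨a, ha, hij⟩ := hex
    have := all a ha j h0
    rwa [hij] at this

/-- the Sylow 5-subgroup -/
def P0 : Subgroup Cfsg.Spor.He where
  carrier := {z | ∃ i j : ℕ, z = wd x5 ^ i * wd y5 ^ j}
  one_mem' := ⟨0, 0, by simp⟩
  mul_mem' := by
    rintro _ _ ⟨i, j, rfl⟩ ⟨k, l, rfl⟩
    refine ⟨i + k, j + l, ?_⟩
    have hc : Commute ((wd x5 : Cfsg.Spor.He) ^ k) (wd y5 ^ j) := Commute.pow_pow rel.2.2.1 k j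
    rw [pow_add, pow_add, mul_assoc, mul_assoc]
    congr 1
    rw [← mul_assoc, ← mul_assoc, hc.eq]
  inv_mem' := by
    rintro _ ⟨i, j, rfl⟩
    obtain ⟨e1, e2, e3, -, -⟩ := rel
    refine ⟨4 * i, 4 * j, ?_⟩
    have hc : Commute ((wd x5 : Cfsg.Spor.He) ^ (4 * i)) (wd y5 ^ (4 * j)) := Commute.pow_pow e3 _ _
    have hc2 : Commute ((wd x5 : Cfsg.Spor.He) ^ i) (wd y5 ^ (4 * j)) := Commute.pow_pow e3 _ _
    rw [inv_eq_iff_mul_eq_one]
    have h1 : (wd x5 : Cfsg.Spor.He) ^ i * wd x5 ^ (4 * i) = 1 := by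
      rw [← pow_add, show i + 4 * i = 5 * i by ring, pow_mul, e1, one_pow]
    have h2 : (wd y5 : Cfsg.Spor.He) ^ j * wd y5 ^ (4 * j) = 1 := by
      rw [← pow_add, show j + 4 * j = 5 * j by ring, pow_mul, e2, one_pow]
    have hc3 : Commute ((wd x5 : Cfsg.Spor.He) ^ (4 * i)) (wd y5 ^ j) := Commute.pow_pow e3 _ _
    calc (wd x5 : Cfsg.Spor.He) ^ i * wd y5 ^ j * (wd x5 ^ (4 * i) * wd y5 ^ (4 * j))
        = wd x5 ^ i * (wd y5 ^ j * wd x5 ^ (4 * i)) * wd y5 ^ (4 * j) := by group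
      _ = wd x5 ^ i * (wd x5 ^ (4 * i) * wd y5 ^ j) * wd y5 ^ (4 * j) := by rw [hc3.eq]
      _ = (wd x5 ^ i * wd x5 ^ (4 * i)) * (wd y5 ^ j * wd y5 ^ (4 * j)) := by group
      _ = 1 := by rw [h1, h2, one_mul]

theorem inv_P0 {z : Cfsg.Spor.He} (hz : z ∈ P0) : Inv z := by
  obtain ⟨i, j, rfl⟩ := hz
  obtain ⟨e1, e2, -, -, -⟩ := rel
  have hi : (wd x5 : Cfsg.Spor.He) ^ i = wd x5 ^ (i % 5) := by
    conv_lhs => rw [← Nat.div_add_mod i 5, pow_add, pow_mul, e1, one_pow, one_mul]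
  have hj : (wd y5 : Cfsg.Spor.He) ^ j = wd y5 ^ (j % 5) := by
    conv_lhs => rw [← Nat.div_add_mod j 5, pow_add, pow_mul, e2, one_pow, one_mul]
  rw [hi, hj]
  exact inv_xy _ _ (Nat.mod_lt _ (by norm_num)) (Nat.mod_lt _ (by norm_num))

theorem dvd_P0 : 25 ∣ Nat.card ↥P0 := by
  obtain ⟨e1, e2, e3, m1, m2⟩ := rel
  have : Fact (Nat.Prime 5) := ⟨by norm_num⟩
  have hx : (wd x5 : Cfsg.Spor.He) ∈ P0 := ⟨1, 0, by simp⟩
  have hy : (wd y5 : Cfsg.Spor.He) ∈ P0 := ⟨0, 1, by simp⟩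
  have hcomm : ∀ a b : ↥P0, a * b = b * a := by
    rintro ⟨_, i, j, rfl⟩ ⟨_, k, l, rfl⟩
    apply Subtype.ext
    have c1 : Commute ((wd x5 : Cfsg.Spor.He) ^ i) (wd y5 ^ l) := Commute.pow_pow e3 _ _
    have c2 : Commute ((wd x5 : Cfsg.Spor.He) ^ k) (wd y5 ^ j) := Commute.pow_pow e3 _ _
    have c3 : Commute ((wd x5 : Cfsg.Spor.He) ^ i) (wd x5 ^ k) := Commute.pow_pow (Commute.refl _) _ _
    have c4 : Commute ((wd y5 : Cfsg.Spor.He) ^ j) (wd y5 ^ l) := Commute.pow_pow (Commute.refl _) _ _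
    have c5 : Commute ((wd x5 : Cfsg.Spor.He) ^ i * wd y5 ^ j) (wd x5 ^ k * wd y5 ^ l) :=
      Commute.mul_left (Commute.mul_right c3 c1) (Commute.mul_right c2.symm c4)
    exact c5
  have hn : (zpowers (⟨wd x5, hx⟩ : ↥P0)).Normal :=
    ⟨fun a ha g => by rw [hcomm g a, mul_inv_cancel_right]; exact ha⟩
  have h1 : orderOf (⟨wd x5, hx⟩ : ↥P0) = 5 := by
    apply orderOf_eq_prime (Subtype.ext e1)
    intro h
    exact m1 (congrArg Subtype.val h)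
  have h2 : 5 ∣ (zpowers (⟨wd x5, hx⟩ : ↥P0)).index := by
    have h3 : orderOf (QuotientGroup.mk' (zpowers (⟨wd x5, hx⟩ : ↥P0)) ⟨wd y5, hy⟩) = 5 := by
      apply orderOf_eq_prime
      · rw [← map_pow]
        rw [show (⟨wd y5, hy⟩ : ↥P0) ^ 5 = 1 from Subtype.ext e2, map_one]
      · intro h
        apply m2
        have h4 := (QuotientGroup.eq_one_iff _).1 h
        rw [mem_zpowers_iff] at h4 ⊢
        obtain ⟨k, hk⟩ := h4
        exact ⟨k, congrArg Subtype.val hk⟩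
    rw [← h3]
    exact orderOf_dvd_natCard _
  have h3 := (zpowers (⟨wd x5, hx⟩ : ↥P0)).card_mul_index
  rw [Nat.card_zpowers, h1] at h3
  rw [← h3]
  exact Nat.mul_dvd_mul_left 5 h2

theorem isPGroup_P0 : IsPGroup 5 ↥P0 := by
  obtain ⟨e1, e2, e3, -, -⟩ := rel
  rintro ⟨_, i, j, rfl⟩
  refine ⟨1, Subtype.ext ?_⟩
  change ((wd x5 : Cfsg.Spor.He) ^ i * wd y5 ^ j) ^ 5 ^ 1 = 1
  rw [pow_one, (Commute.pow_pow e3 i j : Commute _ _).mul_pow, ← pow_mul, ← pow_mul, mul_comm i, mul_comm j,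
    pow_mul, pow_mul, e1, e2, one_pow, one_pow, mul_one]

/-- **elements of order 5 commute with involutions** -/
theorem inv_five {w : Cfsg.Spor.He} (hw : w ^ 5 = 1) : Inv w := by
  have : Fact (Nat.Prime 5) := ⟨by norm_num⟩
  have hf : (Nat.card Cfsg.Spor.He).factorization 5 = 2 := by
    rw [card_he, show (4030387200 : ℕ) = 5 ^ 2 * 161215488 by norm_num, Nat.factorization_mul (by norm_num) (by norm_num),
      Nat.Prime.factorization_pow (by norm_num)]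
    simp [Nat.factorization_eq_zero_of_not_dvd (show ¬ 5 ∣ 161215488 by norm_num)]
  have hcard : Nat.card ↥P0 = 5 ^ (Nat.card Cfsg.Spor.He).factorization 5 := by
    rw [hf]
    obtain ⟨k, hk⟩ := IsPGroup.iff_card.1 isPGroup_P0
    have h1 : Nat.card ↥P0 ∣ Nat.card Cfsg.Spor.He := card_subgroup_dvd_card _
    rw [hk] at h1 ⊢
    have h2 : k ≤ 2 := by
      by_contra h3
      have h4 : 5 ^ 3 ∣ Nat.card Cfsg.Spor.He := (pow_dvd_pow 5 (by omega)).trans h1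
      rw [card_he] at h4
      norm_num at h4
    have h3 : 2 ≤ k := by
      have h4 := dvd_P0
      rw [hk, show (25 : ℕ) = 5 ^ 2 by norm_num] at h4
      exact (Nat.pow_dvd_pow_iff_le_right (by norm_num)).1 h4
    rw [show k = 2 by omega]
  let P : Sylow 5 Cfsg.Spor.He := Sylow.ofCard P0 hcard
  have h1 : IsPGroup 5 ↥(zpowers w) := by
    rw [IsPGroup.iff_card]
    rw [Nat.card_zpowers]
    exact (Nat.dvd_prime_pow (by norm_num)).1 (by simpa using orderOf_dvd_of_pow_eq_one hw : orderOf w ∣ 5 ^ 1) |>.imp fun _ h => h.2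
  obtain ⟨Q, hQ⟩ := h1.exists_le_sylow
  obtain ⟨g, hg⟩ := MulAction.exists_smul_eq Cfsg.Spor.He Q P
  have h2 : g * w * g⁻¹ ∈ P0 := by
    have h3 : g * w * g⁻¹ ∈ ((g • Q : Sylow 5 Cfsg.Spor.He) : Subgroup Cfsg.Spor.He) := by
      rw [Sylow.coe_subgroup_smul]
      exact ⟨w, hQ (mem_zpowers w), rfl⟩
    rw [hg] at h3
    exact h3
  have h3 := (inv_P0 h2).conj g⁻¹
  rwa [show g⁻¹ * (g * w * g⁻¹) * g⁻¹⁻¹ = w by group] at h3

end Cfsg.Agent.H291.HeFive
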