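import Cfsg.Agent.H287.FixCard
import Cfsg.Agent.CpAut.TwoAll

/-!
# The components of the centralizers of the outer involutory automorphisms of `Fi24'` (helper291)

`outCard` : the component is `Fi23` or `2².U₆(2)`.
-/

set_option autoImplicit false

namespace Cfsg.Agent.H291.FiOut

open Cfsg Cfsg.Spor Cfsg.Agent.R01 Cfsg.Agent.R08 Cfsg.Agent.R08.FiTwentyFour
open Cfsg.Agent.R08.TetBasic Cfsg.Agent.R08.TetFi24A
open Cfsg.Agent.CpAutFi24.OutInv Cfsg.Agent.CpAutFi24.Unit Cfsg.Agent.CpAutFi24.Row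
open Subgroup
open Cfsg.Agent.H287

/-- the orders of the components and of their simple quotients -/
def SF (n m : ℕ) : Prop :=
  (n = 4089470473293004800 ∧ m = 4089470473293004800) ∨ (n = 36787322880 ∧ m = 9196830720)

/-- **three transpositions** -/
theorem hcard_tri {a b c : Fi24} (h : Tri3 a b c) (X : Subgroup Spor.Fi24')
    (hX : ∀ k : Spor.Fi24', k ∈ X ↔ Commute (k : Fi24) (a * b * c)) : HCard SF ↥X := by
  have := finite_Fi24
  have hF : Finite Spor.Fi24' := inferInstance
  have hX' : ∀ k ∈ X, Commute (k : Fi24) (a * b * c) := fun k hk => (hX k).1 hk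
  have hker : ∀ k : X, k ∈ (act h X hX').ker ↔ ((k : Spor.Fi24') : Fi24) ∈ U a b c := by
    intro k
    rw [MonoidHom.mem_ker]
    constructor
    · intro hk
      have h1 : ∀ d : {d : Fi24 // d = a ∨ d = b ∨ d = c}, Commute ((k : Spor.Fi24') : Fi24) d := by
        intro d
        have h2 : ((k : Spor.Fi24') : Fi24) * d * ((k : Spor.Fi24') : Fi24)⁻¹ = d :=
          congrArg Subtype.val (DFunLike.congr_fun hk d)
        exact mul_inv_eq_iff_eq_mul.1 h2
      exact ⟨(k : Spor.Fi24').2, h1 ⟨a, Or.inl rfl⟩, h1 ⟨b, Or.inr (Or.inl rfl)⟩, h1 ⟨c, Or.inr (Or.inr rfl)⟩⟩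
    · rintro ⟨-, h1, h2, h3⟩
      ext d
      change ((k : Spor.Fi24') : Fi24) * d * ((k : Spor.Fi24') : Fi24)⁻¹ = d
      obtain ⟨d, rfl | rfl | rfl⟩ := d
      · exact mul_inv_eq_iff_eq_mul.2 h1
      · exact mul_inv_eq_iff_eq_mul.2 h2
      · exact mul_inv_eq_iff_eq_mul.2 h3
  let f : (act h X hX').ker →* U a b c :=
    { toFun := fun k => ⟨((k : X) : Spor.Fi24'), (hker k).1 k.2⟩
      map_one' := rfl
      map_mul' := fun _ _ => rfl }
  have hf : Function.Bijective f := by
    constructor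
    · intro k l e
      apply Subtype.ext
      apply Subtype.ext
      apply Subtype.ext
      exact congrArg (fun u : U a b c => (u : Fi24)) e
    · intro u
      have h0 := u.2
      obtain ⟨h1, h2, h3, h4⟩ := mem_U.1 h0
      have h5 : (⟨u, h1⟩ : Spor.Fi24') ∈ X := (hX _).2 ((h2.mul_right h3).mul_right h4)
      exact ⟨⟨⟨⟨u, h1⟩, h5⟩, (hker _).2 h0⟩, rfl⟩
  let e : (act h X hX').ker ≃* U a b c := MulEquiv.ofBijective f hf
  refine HCard.of_normal (act h X hX').ker ?_ (HCard.congr e.symm ?_)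
  · have hs : Finite {d : Fi24 // d = a ∨ d = b ∨ d = c} := inferInstance
    have h4 : Nat.card {d : Fi24 // d = a ∨ d = b ∨ d = c} ≤ 4 := by
      have h5 : Nat.card {d : Fi24 // d = a ∨ d = b ∨ d = c} ≤ Nat.card (Fin 3) := by
        refine Nat.card_le_card_of_surjective (fun i : Fin 3 => (![⟨a, Or.inl rfl⟩, ⟨b, Or.inr (Or.inl rfl)⟩,
          ⟨c, Or.inr (Or.inr rfl)⟩] : Fin 3 → {d : Fi24 // d = a ∨ d = b ∨ d = c}) i) ?_
        rintro ⟨d, rfl | rfl | rfl⟩
        · exact ⟨0, rfl⟩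
        · exact ⟨1, rfl⟩
        · exact ⟨2, rfl⟩
      rw [Nat.card_fin] at h5
      omega
    have h6 := Cfsg.Agent.Schreier.Tools.isSolvable_perm_of_card_le_four _ h4
    exact Group.isSolvable_of_isSolvable_injective (QuotientGroup.kerLift_injective (act h X hX'))
  · have hfU : Finite ↥(U a b c) := inferInstance
    have P := (exists_at h.ha h.hb h.nab h.ab)
    obtain ⟨P⟩ := P
    refine HCard.of_quasisimple (quasi h) (Or.inr ⟨card_U h, ?_⟩)
    rw [Nat.card_congr (CTwoTab.quoCenterEquiv (sig_surj P (nb_of h)) (center_quo P (nb_of h))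
      (ker_le P (nb_of h))).toEquiv, card_quo P (nb_of h)]

/-- **a transposition** -/
theorem hcard_one {a : Fi24} (ha : a ∈ L) (X : Subgroup Spor.Fi24')
    (hX : ∀ k : Spor.Fi24', k ∈ X ↔ Commute (k : Fi24) a) : HCard SF ↥X := by
  have F := FiTwentyFour.facts
  obtain ⟨h, rfl⟩ := isConj_iff.1 (show IsConj (Fischer.Fi24Class.gen .l) a from ha)
  let ψ : Fi23 →* Fi24 := (MulAut.conj h).toMonoidHom.comp F.phi
  have hψi : Function.Injective ψ := (MulAut.conj h).injective.comp F.phi_injective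
  have hψ : ∀ g : Fi24, g ∈ commutator Fi24 → g * (h * Fischer.Fi24Class.gen .l * h⁻¹) =
      (h * Fischer.Fi24Class.gen .l * h⁻¹) * g → ∃ k, ψ k = g := by
    intro g hg hgc
    obtain ⟨k, hk⟩ := (F.mem_range_iff (h⁻¹ * g * h)).2 ⟨by
      calc h⁻¹ * g * h * Fischer.Fi24Class.gen .l
          = h⁻¹ * (g * (h * Fischer.Fi24Class.gen .l * h⁻¹)) * h := by group
        _ = h⁻¹ * ((h * Fischer.Fi24Class.gen .l * h⁻¹) * g) * h := by rw [hgc]
        _ = _ := by group, by
      rw [← mem_commutator_iff]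
      have := (inferInstance : (commutator Fi24).Normal).conj_mem g hg h⁻¹
      rwa [inv_inv] at this⟩
    refine ⟨k, ?_⟩
    change h * F.phi k * h⁻¹ = g
    rw [hk]
    group
  have hψc : ∀ k, ψ k ∈ commutator Fi24 ∧ ψ k * (h * Fischer.Fi24Class.gen .l * h⁻¹) =
      (h * Fischer.Fi24Class.gen .l * h⁻¹) * ψ k := by
    intro k
    have e : ψ k = h * F.phi k * h⁻¹ := rfl
    have h1 : F.phi k ∈ commutator Fi24 := mem_commutator_iff.2 (F.sgn_phi k)
    refine ⟨?_, ?_⟩
    · rw [e]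
      exact (inferInstance : (commutator Fi24).Normal).conj_mem _ h1 h
    · rw [e]
      calc h * F.phi k * h⁻¹ * (h * Fischer.Fi24Class.gen .l * h⁻¹)
          = h * (F.phi k * Fischer.Fi24Class.gen .l) * h⁻¹ := by group
        _ = h * (Fischer.Fi24Class.gen .l * F.phi k) * h⁻¹ := by rw [F.phi_comm]
        _ = _ := by group
  let f : Fi23 →* X :=
    { toFun := fun k => ⟨⟨ψ k, (hψc k).1⟩, (hX _).2 (hψc k).2⟩
      map_one' := Subtype.ext (Subtype.ext (map_one ψ))
      map_mul' := fun k l => Subtype.ext (Subtype.ext (map_mul ψ k l)) }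
  have hf : Function.Bijective f := by
    constructor
    · intro k l e
      apply hψi
      exact congrArg (fun y : X => ((y : Spor.Fi24') : Fi24)) e
    · rintro ⟨g, hg⟩
      obtain ⟨k, hk⟩ := hψ g g.2 ((hX g).1 hg)
      exact ⟨k, Subtype.ext (Subtype.ext hk)⟩
  have h23 : HCard SF Fi23 := by
    have := simple23
    have := finite23
    exact HCard.of_simple (not_comm_of_card (by rw [card23]; norm_num)) (Or.inl ⟨card23, card23⟩)
  exact h23.congr (MulEquiv.ofBijective f hf)

theorem outer (x : MulAut Spor.Fi24') (hx : orderOf x = 2) (hout : ¬ ∃ g, x = MulAut.conj g) :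
    HCard SF ↥(fixedSubgroup x) := by
  obtain ⟨g, hg⟩ := KFacts.FiTF.exists_conj x
  have hxx : x * x = 1 := by rw [← pow_two, ← hx, pow_orderOf_eq_one]
  have hgn : g ∉ commutator Fi24 := by
    intro h
    apply hout
    refine ⟨⟨g, h⟩, ?_⟩
    ext k
    exact hg k
  have hgg : g * g = 1 := by
    apply eq_one_of_comm
    intro k hk
    have h1 : x (x ⟨k, hk⟩) = ⟨k, hk⟩ := DFunLike.congr_fun hxx ⟨k, hk⟩
    have h2 := congrArg Subtype.val h1
    rw [hg, hg] at h2
    have h3 : g * (g * k * g⁻¹) * g⁻¹ = k := h2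
    calc g * g * k = g * (g * k * g⁻¹) * g⁻¹ * (g * g) := by group
      _ = k * (g * g) := by rw [h3]
  have hX : ∀ k : Spor.Fi24', k ∈ fixedSubgroup x ↔ Commute (k : Fi24) g := by
    intro k
    constructor
    · intro hk
      have h1 : x k = k := hk
      have h2 : g * (k : Fi24) * g⁻¹ = k := by rw [← hg, h1]
      exact (mul_inv_eq_iff_eq_mul.1 h2).symm
    · intro hk
      change x k = k
      apply Subtype.ext
      rw [hg, mul_inv_eq_iff_eq_mul]
      exact hk.eq.symm
  rcases outer_cases hgn hgg with h | ⟨a, b, c, h, rfl⟩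
  · exact hcard_one h _ hX
  · exact hcard_tri h _ hX

/-- **`Fi24'`** -/
theorem outCard {X : Type*} [Group X] (h : Spor.IsoFi24' X) : OutCard SF X := by
  obtain ⟨f⟩ := h
  exact OutCard.of_equiv f.symm outer

end Cfsg.Agent.H291.FiOut
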