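import Cfsg.Agent.H291.RowsC
import Cfsg.Agent.CpQuot.ONThree
import Cfsg.Agent.KFacts.ON.OneClass

/-!
# The row `O'N`, `n ≥ 9` (helper291)

The 3-elements of `O'N` have order 3; `A_n`, `n ≥ 9`, contains a 9-cycle.
-/

set_option autoImplicit false

namespace Cfsg.Agent.H291.RowsG

open Subgroup Equiv Cfsg Cfsg.Agent.H291 Cfsg.Agent.CpQuot.ONThree
open Cfsg.Spor (ON)
open Cfsg.Agent.KFacts.MulSpor.ON (w)

universe u

theorem gens_comm : ∀ a ∈ ({w x₁, w x₂, w s * w t₁, w s * w t₂} : Set ON),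
    ∀ b ∈ ({w x₁, w x₂, w s * w t₁, w s * w t₂} : Set ON), a * b = b * a := by
  have h12 := x12 KFacts.ON.OneClass.hs
  have h1s : Commute (w x₁) (w s) := x1s KFacts.ON.OneClass.hs
  have h2s : Commute (w x₂) (w s) := x2s KFacts.ON.OneClass.hs
  have h11 : Commute (w x₁) (w t₁) := x1t1 KFacts.ON.OneClass.hs
  have h21 : Commute (w x₂) (w t₁) := x2t1 KFacts.ON.OneClass.hs
  have h1t : Commute (w x₁) (w t₂) := x1t2 KFacts.ON.OneClass.hs
  have h2t : Commute (w x₂) (w t₂) := x2t2 KFacts.ON.OneClass.hs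
  have hyy := yy KFacts.ON.OneClass.hs
  rintro a (rfl | rfl | rfl | rfl) b (rfl | rfl | rfl | rfl)
  · rfl
  · exact h12
  · exact (h1s.mul_right h11).eq
  · exact (h1s.mul_right h1t).eq
  · exact h12.symm
  · rfl
  · exact (h2s.mul_right h21).eq
  · exact (h2s.mul_right h2t).eq
  · exact (h1s.mul_right h11).eq.symm
  · exact (h2s.mul_right h21).eq.symm
  · rfl
  · exact hyy
  · exact (h1s.mul_right h1t).eq.symm
  · exact (h2s.mul_right h2t).eq.symm
  · exact hyy.symm
  · rfl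

theorem cube_conj {G : Type*} [Group G] {k x y : G} (h : k * x * k⁻¹ = y) (hy : y ^ 3 = 1) : x ^ 3 = 1 := by
  have h1 : (k * x * k⁻¹) ^ 3 = k * x ^ 3 * k⁻¹ := conj_pow
  rw [h, hy] at h1
  have h2 : x ^ 3 = k⁻¹ * 1 * k := by rw [h1]; group
  rw [h2]
  group

theorem closure_comm {G : Type*} [Group G] (k : Set G) (h : ∀ a ∈ k, ∀ b ∈ k, a * b = b * a) :
    ∀ a ∈ closure k, ∀ b ∈ closure k, a * b = b * a := by
  intro a ha b hb
  have h1 : closure k ≤ centralizer k := by
    rw [closure_le]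
    intro x hx
    rw [SetLike.mem_coe, mem_centralizer_iff]
    exact fun y hy => h y hy x hx
  have h2 : closure k ≤ centralizer (closure k : Set G) := by
    rw [closure_le]
    intro x hx
    rw [SetLike.mem_coe, mem_centralizer_iff]
    intro y hy
    have := mem_centralizer_iff.1 (h1 hy) x hx
    exact this.symm
  exact mem_centralizer_iff.1 (h2 hb) a ha

theorem cube {z : ON} (hz : z ∈ P) : z ^ 3 = 1 := by
  have hcomm : ∀ a ∈ P, ∀ b ∈ P, a * b = b * a := closure_comm _ gens_comm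
  have hy1 : (w s * w t₁) ^ 3 = 1 := cube_conj (k1 KFacts.ON.OneClass.hs) (cube1 KFacts.ON.OneClass.hs)
  have hy2 : (w s * w t₂) ^ 3 = 1 := by
    refine cube_conj (k2 KFacts.ON.OneClass.hs) ?_
    rw [(show Commute (w x₁) (w x₂) from x12 KFacts.ON.OneClass.hs).mul_pow, cube1 KFacts.ON.OneClass.hs,
      cube2 KFacts.ON.OneClass.hs, mul_one]
  unfold P at hz hcomm
  induction hz using closure_induction with
  | mem x hx =>
    rcases hx with rfl | rfl | rfl | rfl
    · exact cube1 KFacts.ON.OneClass.hs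
    · exact cube2 KFacts.ON.OneClass.hs
    · exact hy1
    · exact hy2
  | one => exact one_pow _
  | mul x y hx hy h1 h2 =>
    rw [(show Commute x y from hcomm x hx y hy).mul_pow, h1, h2, mul_one]
  | inv x hx h1 => rw [inv_pow, h1, inv_one]

/-- `O'N` has no elements of order 9 -/
theorem no_nine (z : ON) : orderOf z ≠ 9 := by
  intro hz
  have hfin : Finite ON := KFacts.ON.OneClass.finite_ON
  have : Fact (Nat.Prime 3) := ⟨Nat.prime_three⟩
  have hP : IsPGroup 3 ↥P := fun x => ⟨1, Subtype.ext (by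
    rw [pow_one]
    exact cube x.2)⟩
  let Q : Sylow 3 ON := hP.toSylow (not_dvd_index KFacts.ON.Cent.hON)
  have h1 : IsPGroup 3 ↥(zpowers z) := by
    rw [IsPGroup.iff_card, Nat.card_zpowers, hz]
    exact ⟨2, by norm_num⟩
  obtain ⟨R, hR⟩ := h1.exists_le_sylow
  obtain ⟨g, hg⟩ := MulAction.exists_smul_eq ON R Q
  have h2 : g * z * g⁻¹ ∈ P := by
    have h3 : g * z * g⁻¹ ∈ ((g • R : Sylow 3 ON) : Subgroup ON) := by
      rw [Sylow.coe_subgroup_smul]
      exact ⟨z, hR (mem_zpowers z), rfl⟩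
    rw [hg] at h3
    exact h3
  have h4 := cube h2
  have h5 : (g * z * g⁻¹) ^ 3 = g * z ^ 3 * g⁻¹ := conj_pow
  rw [h4] at h5
  have h6 : z ^ 3 = g⁻¹ * 1 * g := by rw [h5]; group
  have h7 : z ^ 3 = 1 := by rw [h6]; group
  have h8 := orderOf_dvd_of_pow_eq_one h7
  rw [hz] at h8
  norm_num at h8

/-- **`O'N`, `n ≥ 9`** -/
theorem row_on {X : Type u} [Group X] {n : ℕ} (S : AltCore.Sit X n) (hn : 9 ≤ n) (h : Spor.IsoON X) : False := by
  obtain ⟨e⟩ := h
  obtain ⟨v, hv⟩ := S.exists_cycleType {9} (by simpa using hn) (by simp) (by decide)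
  have h1 : orderOf (v : X) = 9 := by
    rw [S.orderOf_coe, hv]
    simp
  exact no_nine (e v) (by rw [MulEquiv.orderOf_eq, h1])

end Cfsg.Agent.H291.RowsG
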