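import Cfsg.Agent.H291.FixIndex
import Cfsg.Agent.BpSpor.HeThree

/-!
# Involutory automorphisms of `L₃(4)` centralizing a subgroup of order divisible by 360 (helper291)

`eq_one` : they are trivial (Sylow arithmetic for 3 and 5).
-/

set_option autoImplicit false

namespace Cfsg.Agent.H291.LThreeFix

open Subgroup Cfsg Cfsg.Agent.H291.FixIndex

universe u

/-- a Sylow subgroup of the fixed points which is a Sylow subgroup -/
theorem exists_sylow {L : Type u} [Group L] [Finite L] {p : ℕ} [Fact p.Prime] (D : Subgroup L) {k : ℕ}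
    (hL : (Nat.card L).factorization p = k) (hD : p ^ k ∣ Nat.card ↥D) :
    ∃ P : Sylow p L, (P : Subgroup L) ≤ D ∧ Nat.card ↥(P : Subgroup L) = p ^ k := by
  obtain ⟨Q, hQ⟩ := Sylow.exists_subgroup_card_pow_prime (G := ↥D) p hD
  have h1 : Nat.card ↥(Q.map D.subtype) = p ^ k := by
    rw [← hQ]
    exact (Nat.card_congr (Q.equivMapOfInjective _ D.subtype_injective).toEquiv).symm
  refine ⟨Sylow.ofCard (Q.map D.subtype) (by rw [h1, hL]), ?_, ?_⟩
  · change Q.map D.subtype ≤ D
    exact map_subtype_le Q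
  · exact h1

theorem cent_le {L : Type u} [Group L] [Finite L] {p : ℕ} [Fact p.Prime] (P : Sylow p L)
    (hc : ∀ a ∈ (P : Subgroup L), ∀ b ∈ (P : Subgroup L), a * b = b * a) {x : L} (hx : x ∈ (P : Subgroup L))
    (hd : Nat.card ↥(centralizer ({x} : Set L)) ∣ Nat.card ↥(P : Subgroup L)) :
    centralizer ((P : Subgroup L) : Set L) ≤ P := by
  have h1 : (P : Subgroup L) ≤ centralizer ({x} : Set L) := by
    intro a ha
    rw [mem_centralizer_singleton_iff]
    exact hc a ha x hx
  have h2 : (P : Subgroup L) = centralizer ({x} : Set L) :=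
    Subgroup.eq_of_le_of_card_ge h1 (Nat.le_of_dvd Nat.card_pos hd)
  have h3 : centralizer ((P : Subgroup L) : Set L) ≤ centralizer ({x} : Set L) :=
    centralizer_le (Set.singleton_subset_iff.2 hx)
  rw [← h2] at h3
  exact h3

theorem eq_one_of {L : Type u} [Group L] [Finite L] (hc : Nat.card L = 20160)
    (h3 : ∀ x : L, orderOf x = 3 → Nat.card ↥(centralizer ({x} : Set L)) ∣ 9)
    (h5 : ∀ x : L, orderOf x = 5 → Nat.card ↥(centralizer ({x} : Set L)) = 5)
    (t : MulAut L) (ht : t * t = 1) (hD : 360 ∣ Nat.card ↥(fixedSubgroup t)) : t = 1 := by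
  have hp3 : Fact (Nat.Prime 3) := ⟨Nat.prime_three⟩
  have hp5 : Fact (Nat.Prime 5) := ⟨by norm_num⟩
  have f3 : (Nat.card L).factorization 3 = 2 := by
    rw [hc]
    rw [show (20160 : ℕ) = 3 ^ 2 * 2240 by norm_num, Nat.factorization_mul (by norm_num) (by norm_num),
      Nat.Prime.factorization_pow Nat.prime_three]
    simp [Nat.factorization_eq_zero_of_not_dvd (show ¬ 3 ∣ 2240 by norm_num)]
  have f5 : (Nat.card L).factorization 5 = 1 := by
    rw [hc]
    rw [show (20160 : ℕ) = 5 ^ 1 * 4032 by norm_num, Nat.factorization_mul (by norm_num) (by norm_num),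
      Nat.Prime.factorization_pow (by norm_num)]
    simp [Nat.factorization_eq_zero_of_not_dvd (show ¬ 5 ∣ 4032 by norm_num)]
  obtain ⟨P, hP, cP⟩ := exists_sylow (p := 3) (fixedSubgroup t) f3 ((by norm_num : (3 ^ 2 : ℕ) ∣ 360).trans hD)
  obtain ⟨Q, hQ, cQ⟩ := exists_sylow (p := 5) (fixedSubgroup t) f5 ((by norm_num : (5 ^ 1 : ℕ) ∣ 360).trans hD)
  have i3 : (fixedSubgroup t).index ≡ 1 [MOD 3] := by
    refine index_modEq t ht (by decide) P hP ?_
    obtain ⟨x, hx⟩ := exists_prime_orderOf_dvd_card' (G := ↥(P : Subgroup L)) 3 (by rw [cP]; norm_num)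
    refine cent_le P ?_ x.2 ?_
    · have hcomm : IsMulCommutative ↥(P : Subgroup L) := IsPGroup.isMulCommutative_of_card_eq_prime_sq cP
      intro a ha b hb
      exact congrArg Subtype.val (hcomm.is_comm.comm ⟨a, ha⟩ ⟨b, hb⟩)
    · rw [cP]
      exact h3 x (by rw [Subgroup.orderOf_coe, hx])
  have i5 : (fixedSubgroup t).index ≡ 1 [MOD 5] := by
    refine index_modEq t ht (by decide) Q hQ ?_
    obtain ⟨x, hx⟩ := exists_prime_orderOf_dvd_card' (G := ↥(Q : Subgroup L)) 5 (by rw [cQ]; norm_num)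
    refine cent_le Q ?_ x.2 ?_
    · have hcyc : IsCyclic ↥(Q : Subgroup L) := isCyclic_of_prime_card (p := 5) (by rw [cQ, pow_one])
      intro a ha b hb
      exact congrArg Subtype.val (IsCyclic.isMulCommutative.is_comm.comm (⟨a, ha⟩ : ↥(Q : Subgroup L)) ⟨b, hb⟩)
    · rw [cQ, h5 x (by rw [Subgroup.orderOf_coe, hx])]
      norm_num
  have hi : (fixedSubgroup t).index ∣ 56 := by
    have h6 := (fixedSubgroup t).card_mul_index
    rw [hc] at h6
    obtain ⟨k, hk⟩ := hD
    rw [hk] at h6
    exact ⟨k, by nlinarith⟩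
  have h1 : (fixedSubgroup t).index = 1 := by
    have h7 : (fixedSubgroup t).index ≤ 56 := Nat.le_of_dvd (by norm_num) hi
    rw [Nat.ModEq] at i3 i5
    generalize (fixedSubgroup t).index = m at *
    interval_cases m <;> first | rfl | (exfalso; revert hi i3 i5; decide)
  rw [index_eq_one] at h1
  ext x
  have h8 : x ∈ fixedSubgroup t := by rw [h1]; exact mem_top x
  exact h8

theorem card_cent_equiv {X : Type*} {Y : Type*} [Group X] [Group Y] (e : X ≃* Y) (x : X) :
    Nat.card ↥(centralizer ({e x} : Set Y)) = Nat.card ↥(centralizer ({x} : Set X)) := by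
  have h : centralizer ({e x} : Set Y) = (centralizer ({x} : Set X)).map e.toMonoidHom := by
    ext y
    rw [mem_centralizer_singleton_iff, mem_map]
    constructor
    · intro hy
      refine ⟨e.symm y, ?_, by simp⟩
      rw [mem_centralizer_singleton_iff]
      apply e.injective
      simpa using hy
    · rintro ⟨x', hx', rfl⟩
      rw [mem_centralizer_singleton_iff] at hx'
      change e x' * e x = e x * e x'
      rw [← map_mul, ← map_mul, hx']
  rw [h]
  exact (Nat.card_congr ((centralizer ({x} : Set X)).equivMapOfInjective _ e.injective).toEquiv).symm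

/-- `L ≃ PSL₃(4)` -/
theorem eq_one {L : Type u} [Group L] (e : L ≃* Cfsg.Agent.ONType.Psl.PSL3)
    (t : MulAut L) (ht : t * t = 1) (hD : 360 ∣ Nat.card ↥(fixedSubgroup t)) : t = 1 := by
  have h0 := Cfsg.Agent.CpAut.SmallP.PslFour.finite_PSL3
  have : Finite L := Finite.of_equiv _ e.symm.toEquiv
  refine eq_one_of ?_ (fun x hx => ?_) (fun x hx => ?_) t ht hD
  · rw [Nat.card_congr e.toEquiv]
    exact Cfsg.Agent.ONType.PslCard.card_PSL3
  · rw [← card_cent_equiv e]
    exact BpSpor.LFour.card_three (by rw [MulEquiv.orderOf_eq, hx])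
  · rw [← card_cent_equiv e]
    exact BpSpor.LFour.card_five (by rw [MulEquiv.orderOf_eq, hx])

end Cfsg.Agent.H291.LThreeFix
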