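import Cfsg.Agent.CpAut.TwoAll
import Cfsg.Agent.KFacts.HS.Sheet
import Cfsg.Agent.KFacts.HS.DFour
import Cfsg.Agent.H291.LThreeFix

/-!
# Involutory automorphisms of `HS` centralizing a subgroup of order 2520 with trivial centre (helper291)

`main` : the order of the fixed points is divisible by 64.
-/

set_option autoImplicit false

namespace Cfsg.Agent.H291.HSFix

open Subgroup Cfsg Cfsg.Agent.KFacts.HS Cfsg.Agent.KFacts.HS.DFour

universe u

variable {L : Type u} [Group L] (D : Cfsg.Agent.KFacts.HS.Mod L)

theorem card_conj {c x : L} : Nat.card ↥(centralizer ({c * x * c⁻¹} : Set L)) = Nat.card ↥(centralizer ({x} : Set L)) := by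
  have h := LThreeFix.card_cent_equiv (MulAut.conj c) x
  rwa [MulAut.conj_apply] at h

include D in
/-- the orders of the centralizers of the involutions -/
theorem cent_cases [Finite L] {x : L} (hx : x * x = 1) (h1 : x ≠ 1) :
    Nat.card ↥(centralizer ({x} : Set L)) = 7680 ∨ Nat.card ↥(centralizer ({x} : Set L)) ≤ 2880 := by
  rcases inv_cases D x hx h1 with ⟨c, rfl⟩ | ⟨c, rfl⟩
  · left
    rw [card_conj]
    have hz := D.card_centralizer
    rcases inv_cases D D.z D.zz D.z1 with ⟨d, hd⟩ | ⟨d, hd⟩
    · rw [← hd, card_conj] at hz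
      exact hz
    · rw [← hd, card_conj] at hz
      have := card_C D
      omega
  · right
    rw [card_conj]
    exact card_C D

/-- conjugate automorphisms -/
theorem card_fix_conj (a x : MulAut L) : Nat.card ↥(fixedSubgroup (a * x * a⁻¹)) = Nat.card ↥(fixedSubgroup x) := by
  have h : fixedSubgroup (a * x * a⁻¹) = (fixedSubgroup x).map a.toMonoidHom := by
    ext y
    rw [mem_map]
    constructor
    · intro hy
      refine ⟨a⁻¹ y, ?_, ?_⟩
      · change x (a⁻¹ y) = a⁻¹ y
        have h1 : (a * x * a⁻¹) y = y := hy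
        rw [MulAut.mul_apply, MulAut.mul_apply] at h1
        apply a.injective
        rw [h1]
        exact (MulAut.apply_inv_self L a y).symm
      · exact MulAut.apply_inv_self L a y
    · rintro ⟨z, hz, rfl⟩
      change (a * x * a⁻¹) (a z) = a z
      rw [MulAut.mul_apply, MulAut.mul_apply, MulAut.inv_apply_self]
      rw [show x z = z from hz]
  rw [h]
  exact (Nat.card_congr ((fixedSubgroup x).equivMapOfInjective _ a.injective).toEquiv).symm

include D in
theorem main (hZL : center L = ⊥) (x : MulAut L) (hx : x * x = 1) {B : Type*} [Group B] (f : B →* L)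
    (hf : Function.Injective f) (hfix : ∀ b, x (f b) = f b) (hB : Nat.card B = 2520) (hZ : center B = ⊥)
    (hP : commutator B = ⊤) :
    2 ^ 6 ∣ Nat.card ↥(fixedSubgroup x) := by
  have hfin : Finite L := fin D
  have hle : f.range ≤ fixedSubgroup x := by
    rintro _ ⟨b, rfl⟩
    exact hfix b
  have hcr : Nat.card ↥f.range = 2520 := by
    rw [← hB]
    exact (Nat.card_congr (MonoidHom.ofInjective hf).toEquiv).symm
  have h7 : 2520 ∣ Nat.card ↥(fixedSubgroup x) := by
    rw [← hcr]
    exact card_dvd_of_le hle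
  by_cases h1 : x = 1
  · subst h1
    have h2 : fixedSubgroup (1 : MulAut L) = ⊤ := by
      ext y
      exact ⟨fun _ => mem_top y, fun _ => rfl⟩
    rw [h2, Subgroup.card_top, D.card]
    norm_num
  have ho : orderOf x = 2 := orderOf_eq_prime (by rw [pow_two, hx]) h1
  by_cases hin : ∃ g : L, x = MulAut.conj g
  · exfalso
    obtain ⟨g, rfl⟩ := hin
    have hfx : fixedSubgroup (MulAut.conj g) = centralizer ({g} : Set L) := by
      ext y
      rw [mem_centralizer_singleton_iff]
      change g * y * g⁻¹ = y ↔ _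
      rw [mul_inv_eq_iff_eq_mul]
      exact eq_comm
    rw [hfx] at h7 hle
    have hg1 : g ≠ 1 := by
      rintro rfl
      exact h1 (map_one _)
    -- `g` is an involution
    have hgg : g * g = 1 := by
      have h2 : MulAut.conj (g * g) = 1 := by rw [map_mul, hx]
      have h3 : g * g ∈ center L := by
        rw [mem_center_iff]
        intro y
        have h4 := DFunLike.congr_fun h2 y
        rw [MulAut.conj_apply] at h4
        exact (mul_inv_eq_iff_eq_mul.1 h4).symm
      rw [hZL] at h3
      exact h3
    rcases cent_cases D hgg hg1 with h2 | h2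
    · rw [h2] at h7
      norm_num at h7
    · -- `⟨g⟩ × B ≤ C(g)`
      have hgn : g ∉ f.range := by
        rintro ⟨b, rfl⟩
        have hb : b ∈ center B := by
          rw [mem_center_iff]
          intro c
          apply hf
          rw [map_mul, map_mul]
          exact mem_centralizer_singleton_iff.1 (hle ⟨c, rfl⟩)
        rw [hZ] at hb
        rw [hb, map_one] at hg1
        exact hg1 rfl
      have h3 : 2 * Nat.card ↥f.range ≤ Nat.card ↥(centralizer ({g} : Set L)) :=
        KFacts.HS.TwoB.two_mul_card_le_of hle (mem_centralizer_singleton_iff.2 rfl) hgn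
      rw [hcr] at h3
      omega
  · obtain ⟨a, h2 | h2⟩ := Cfsg.Agent.CpAutTwo.HS.outer_cases D x ho hin
    · rw [h2, card_fix_conj]
      have h3 : Nat.card ↥(Cfsg.Agent.CpAutTwo.HS.al D).range = 20160 := by
        rw [← Nat.card_congr (MonoidHom.ofInjective (Cfsg.Agent.CpAutTwo.HS.al_inj D)).toEquiv]
        rw [nat_card_alternatingGroup, Nat.card_eq_fintype_card, Fintype.card_fin]
        decide
      have h4 := card_dvd_of_le (Cfsg.Agent.CpAutTwo.HS.al_le D)
      rw [h3] at h4
      exact (by norm_num : 2 ^ 6 ∣ 20160).trans h4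
    · exfalso
      have hle' : (f.range.map a⁻¹.toMonoidHom) ≤ fixedSubgroup (D.au Cfsg.Agent.HN.Syl.d) := by
        rintro _ ⟨y, hy, rfl⟩
        have h3 : x y = y := hle hy
        rw [h2] at h3
        change (D.au Cfsg.Agent.HN.Syl.d) (a⁻¹ y) = a⁻¹ y
        rw [MulAut.mul_apply, MulAut.mul_apply] at h3
        apply a.injective
        rw [h3]
        exact (MulAut.apply_inv_self L a y).symm
      have hperf : ⁅f.range.map a⁻¹.toMonoidHom, f.range.map a⁻¹.toMonoidHom⁆ = f.range.map a⁻¹.toMonoidHom := by
        rw [← map_commutator, MonoidHom.range_eq_map, ← map_commutator]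
        congr 2
      have h3 : f.range.map a⁻¹.toMonoidHom ≤ D.im Cfsg.Agent.CpAutTwo.HS.Cd :=
        CTwoTab.perfect_le_of_sq (fun q hq => Cfsg.Agent.CpAutTwo.HS.sq_mem D hq) _ hle' hperf
      have h4 := Nat.le_of_dvd Nat.card_pos (card_dvd_of_le h3)
      rw [← Nat.card_congr ((f.range).equivMapOfInjective _ (a⁻¹).injective).toEquiv, hcr] at h4
      have hcd : 2 * Nat.card ↥(D.im Cfsg.Agent.CpAutTwo.HS.Cd) = Nat.card ↥Cfsg.Agent.CpAutTwo.HS.Cd :=
        D.card_im Cfsg.Agent.CpAutTwo.HS.τ_mem_Cd inf_le_right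
      have := Cfsg.Agent.CpAutTwo.HS.card_Cd
      omega

end Cfsg.Agent.H291.HSFix
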