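import Cfsg.Agent.H291.RowsF
import Cfsg.Agent.H291.HSFix
import Cfsg.Agent.CTwoTab.HN
import Cfsg.Agent.KFacts.HN.Cards

/-!
# The row `HN`, `n = 9` (helper291)

* `card_bar_dvd` : `|C_{N/Z(N)}(τ)|` divides `|C_N(τ)|`;
* `two_pow_dvd` : in the situation `Sit X n`, `u` acting as `σ`, `N` the largest perfect subgroup of `C_X(u)`: a power of
  2 dividing `|C_{N/Z(N)}(t)|` divides `|C_{S_n}(σ)|`;
* `row_hn9`.
-/

set_option autoImplicit false

namespace Cfsg.Agent.H291.RowsH

open Subgroup Equiv Cfsg Cfsg.Agent.H291 Cfsg.Agent.H291.RowsC Cfsg.Agent.H291.RowsE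

universe u

theorem card_bar_dvd {N : Type u} [Group N] [Finite N] (τ : MulAut N) :
    Nat.card ↥(fixedSubgroup (bar τ)) ∣ Nat.card ↥(fixedSubgroup τ) := by
  set F := fixedSubgroup (bar τ) with hF
  set D := F.comap (QuotientGroup.mk' (center N)) with hD
  have hmem : ∀ n ∈ D, n⁻¹ * τ n ∈ center N := by
    intro n hn
    have h1 : bar τ (QuotientGroup.mk' (center N) n) = QuotientGroup.mk' (center N) n := hn
    rw [bar_mk] at h1
    exact QuotientGroup.eq.1 h1.symm
  let δ : ↥D →* ↥(center N) :=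
    { toFun := fun n => ⟨(n : N)⁻¹ * τ n, hmem n n.2⟩
      map_one' := Subtype.ext (by simp)
      map_mul' := fun n m => by
        apply Subtype.ext
        change ((n : N) * m)⁻¹ * τ ((n : N) * m) = ((n : N)⁻¹ * τ n) * ((m : N)⁻¹ * τ m)
        have h1 := mem_center_iff.1 (hmem n n.2) (m : N)⁻¹
        rw [map_mul, mul_inv_rev]
        calc (m : N)⁻¹ * (n : N)⁻¹ * (τ n * τ m) = ((m : N)⁻¹ * ((n : N)⁻¹ * τ n)) * τ m := by group
          _ = (((n : N)⁻¹ * τ n) * (m : N)⁻¹) * τ m := by rw [h1]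
          _ = _ := by group }
  have h1 : Nat.card ↥δ.ker = Nat.card ↥(fixedSubgroup τ) := by
    have h2 : fixedSubgroup τ ≤ D := by
      intro x hx
      change bar τ (QuotientGroup.mk' (center N) x) = QuotientGroup.mk' (center N) x
      rw [bar_mk, show τ x = x from hx]
    have h3 : δ.ker = (fixedSubgroup τ).subgroupOf D := by
      ext x
      rw [MonoidHom.mem_ker, mem_subgroupOf]
      constructor
      · intro h
        have h4 : (x : N)⁻¹ * τ x = 1 := congrArg Subtype.val h
        exact (inv_mul_eq_one.1 h4).symm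
      · intro h
        apply Subtype.ext
        change (x : N)⁻¹ * τ x = 1
        rw [show τ (x : N) = x from h, inv_mul_cancel]
    rw [h3]
    exact Nat.card_congr (subgroupOfEquivOfLe h2).toEquiv
  have h2 : Nat.card ↥D = Nat.card ↥(center N) * Nat.card ↥F := by
    have h3 : D.index = F.index := index_comap_of_surjective F (QuotientGroup.mk'_surjective _)
    have h4 := D.card_mul_index
    have h5 := F.card_mul_index
    have h6 := (center N).card_mul_index
    have h7 : (center N).index = Nat.card (N ⧸ center N) := rfl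
    rw [h7, ← h5, ← h4, h3, ← mul_assoc] at h6
    have h8 : F.index ≠ 0 := F.index_ne_zero_of_finite
    exact (Nat.eq_of_mul_eq_mul_right (Nat.pos_of_ne_zero h8) h6).symm
  have h3 := δ.ker.card_mul_index
  rw [index_ker, h1, h2] at h3
  obtain ⟨s, hs⟩ := card_subgroup_dvd_card δ.range
  have h4 : Nat.card ↥δ.range ≠ 0 := Nat.card_pos.ne'
  refine ⟨s, ?_⟩
  have h5 : Nat.card ↥δ.range * Nat.card ↥(fixedSubgroup τ) = Nat.card ↥δ.range * (Nat.card ↥F * s) := by
    rw [mul_comm, h3, hs]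
    ring
  exact Nat.eq_of_mul_eq_mul_left (Nat.pos_of_ne_zero h4) h5

variable {X : Type u} [Group X] [Finite X] {n : ℕ}

theorem two_pow_dvd (S : AltCore.Sit X n) (hn : 7 ≤ n) {u : X} (htu : S.t u = u) {σ : Perm (Fin n)}
    (hσ : ∀ a : ↥S.A, (S.e (S.cj htu a) : Perm (Fin n)) = σ * S.e a * σ⁻¹)
    {N : Subgroup X} (T : TopP X u N) {k : ℕ}
    (hk : 2 ^ k ∣ Nat.card ↥(fixedSubgroup (bar (tau S.tt (fun x (hx : x ∈ N) => map_mem htu T hx))))) :
    2 ^ k ∣ Nat.card ↥(centralizer ({σ} : Set (Perm (Fin n)))) := by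
  set τ := tau S.tt (fun x (hx : x ∈ N) => map_mem htu T hx) with hτ
  have h1 := hk.trans (card_bar_dvd τ)
  set M := (fixedSubgroup τ).map N.subtype with hM
  have hMN : M ≤ N := map_subtype_le _
  have hMt : ∀ x ∈ M, S.t x = x := by
    rintro _ ⟨x, hx, rfl⟩
    exact congrArg Subtype.val (show τ x = x from hx)
  have h2 : 2 ^ k ∣ Nat.card ↥M := by
    rw [hM, ← Nat.card_congr ((fixedSubgroup τ).equivMapOfInjective _ N.subtype_injective).toEquiv]
    exact h1
  set π := perm S hn M hMt with hπ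
  have h3 : ¬ 2 ∣ Nat.card ↥π.ker := by
    intro h
    obtain ⟨y, hy⟩ := exists_prime_orderOf_dvd_card' (G := ↥π.ker) 2 h
    have hyo : orderOf (((y : ↥M)) : X) = 2 := by
      rw [Subgroup.orderOf_coe, Subgroup.orderOf_coe, hy]
    obtain ⟨a, ha, hne⟩ := S.odd _ hyo (hMt _ (y : ↥M).2)
    exact hne (comm_of_perm S hn M hMt (MonoidHom.mem_ker.1 y.2) ⟨a, ha⟩)
  have h4 := π.ker.card_mul_index
  rw [index_ker] at h4
  rw [← h4] at h2
  have h5 : 2 ^ k ∣ Nat.card ↥π.range :=
    (Nat.Coprime.pow_left k ((Nat.Prime.coprime_iff_not_dvd Nat.prime_two).2 h3)).dvd_of_dvd_mul_left h2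
  refine h5.trans (card_dvd_of_le ?_)
  rintro _ ⟨x, rfl⟩
  rw [mem_centralizer_singleton_iff]
  exact perm_comm S hn M hMt htu hσ x (mem_centralizer_singleton_iff.1 (T.le (hMN x.2)))

/-- the 7-cycle -/
def p7 : Perm (Fin 9) := [0, 1, 2, 3, 4, 5, 6].formPerm

theorem p7_mem : p7 ∈ alternatingGroup (Fin 9) := by rw [Equiv.Perm.mem_alternatingGroup]; decide +kernel

/-- involutions commuting with the 7-cycle `p7` are transpositions -/
theorem fix_seven {σ : Perm (Fin 9)} (h2 : orderOf σ = 2) (hc : σ * p7 = p7 * σ) :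
    ∃ s : Finset (Fin 9), (∀ i ∈ s, σ i = i) ∧ s.card = 7 ∧
      Nat.card ↥(centralizer ({σ} : Set (Perm (Fin 9)))) = 10080 := by
  have hss : σ ^ 2 = 1 := by rw [← h2, pow_orderOf_eq_one]
  have hinv : ∀ i, σ (σ i) = i := fun i => by
    have := DFunLike.congr_fun hss i
    rwa [pow_two] at this
  have hcm : ∀ i, σ (p7 i) = p7 (σ i) := fun i => DFunLike.congr_fun hc i
  have e0 : p7 0 = 1 := by decide +kernel
  have e1 : p7 1 = 2 := by decide +kernel
  have e2 : p7 2 = 3 := by decide +kernel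
  have e3 : p7 3 = 4 := by decide +kernel
  have e4 : p7 4 = 5 := by decide +kernel
  have e5 : p7 5 = 6 := by decide +kernel
  have f1 : σ 1 = p7 (σ 0) := by rw [← hcm, e0]
  have f2 : σ 2 = p7 (p7 (σ 0)) := by rw [← f1, ← hcm, e1]
  have f3 : σ 3 = p7 (p7 (p7 (σ 0))) := by rw [← f2, ← hcm, e2]
  have f4 : σ 4 = p7 (p7 (p7 (p7 (σ 0)))) := by rw [← f3, ← hcm, e3]
  have f5 : σ 5 = p7 (p7 (p7 (p7 (p7 (σ 0))))) := by rw [← f4, ← hcm, e4]
  have f6 : σ 6 = p7 (p7 (p7 (p7 (p7 (p7 (σ 0)))))) := by rw [← f5, ← hcm, e5]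
  have h0 : σ 0 = 0 := by
    have h7 : σ 0 ≠ 7 := by
      intro h
      have h6 : σ 1 = σ 0 := by rw [f1, h]; decide +kernel
      exact absurd (σ.injective h6) (by decide)
    have h8 : σ 0 ≠ 8 := by
      intro h
      have h6 : σ 1 = σ 0 := by rw [f1, h]; decide +kernel
      exact absurd (σ.injective h6) (by decide)
    have hx := hinv 0
    generalize hg : σ 0 = a at *
    fin_cases a
    · rfl
    · exfalso
      have h8 : σ 1 = 0 := hx
      rw [f1] at h8
      revert h8
      decide +kernel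
    · exfalso
      have h8 : σ 2 = 0 := hx
      rw [f2] at h8
      revert h8
      decide +kernel
    · exfalso
      have h8 : σ 3 = 0 := hx
      rw [f3] at h8
      revert h8
      decide +kernel
    · exfalso
      have h8 : σ 4 = 0 := hx
      rw [f4] at h8
      revert h8
      decide +kernel
    · exfalso
      have h8 : σ 5 = 0 := hx
      rw [f5] at h8
      revert h8
      decide +kernel
    · exfalso
      have h8 : σ 6 = 0 := hx
      rw [f6] at h8
      revert h8
      decide +kernel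
    · exact absurd rfl h7
    · exact absurd rfl h8
  have g1 : σ 1 = 1 := by rw [f1, h0, e0]
  have g2 : σ 2 = 2 := by rw [f2, h0, e0, e1]
  have g3 : σ 3 = 3 := by rw [f3, h0, e0, e1, e2]
  have g4 : σ 4 = 4 := by rw [f4, h0, e0, e1, e2, e3]
  have g5 : σ 5 = 5 := by rw [f5, h0, e0, e1, e2, e3, e4]
  have g6 : σ 6 = 6 := by rw [f6, h0, e0, e1, e2, e3, e4, e5]
  have hsub : σ.support ⊆ {7, 8} := by
    intro i hi
    rw [Perm.mem_support] at hi
    fin_cases i
    · exact absurd h0 hi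
    · exact absurd g1 hi
    · exact absurd g2 hi
    · exact absurd g3 hi
    · exact absurd g4 hi
    · exact absurd g5 hi
    · exact absurd g6 hi
    all_goals decide
  have hle : σ.support.card ≤ 2 := (Finset.card_le_card hsub).trans (by decide)
  have hdvd : 2 ∣ σ.support.card := Equiv.Perm.two_dvd_card_support hss
  have hne : σ.support.card ≠ 0 := by
    rw [Finset.card_ne_zero, Finset.nonempty_iff_ne_empty, Ne, Perm.support_eq_empty_iff]
    rintro rfl
    rw [orderOf_one] at h2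
    norm_num at h2
  have h3 : σ.support.card = 2 := by omega
  have hsw : σ.IsSwap := Perm.card_support_eq_two.1 h3
  have hct : σ.cycleType = {2} := by rw [hsw.isCycle.cycleType, h3]
  refine ⟨σ.supportᶜ, fun i hi => ?_, ?_, ?_⟩
  · rw [Finset.mem_compl, Perm.notMem_support] at hi
    exact hi
  · rw [Finset.card_compl, h3, Fintype.card_fin]
  · rw [Equiv.Perm.nat_card_centralizer, hct]
    simp [Nat.factorial]

theorem card_alt_seven {s : Finset (Fin n)} (hs : s.card = 7) : Nat.card ↥(alternatingGroup ↥s) = 2520 := by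
  have hc : Nat.card ↥s = 7 := by rw [Nat.card_eq_fintype_card, Fintype.card_coe, hs]
  have : Nontrivial ↥s := by
    rw [← Fintype.one_lt_card_iff_nontrivial, Fintype.card_coe, hs]
    norm_num
  rw [nat_card_alternatingGroup, hc]
  decide

open Cfsg.Agent.HN Cfsg.Agent.HN.XWords Cfsg.Agent.HN.XStruct in
/-- an involution of `HN` commuting with an element of order 7 -/
theorem conj_Q0 {u : Spor.HN} (hu : orderOf u = 2) (h7 : 7 ∣ Nat.card ↥(centralizer ({u} : Set Spor.HN))) :
    ∃ g : MulAut Spor.HN, g (Cfsg.Agent.HN.XWords.Q 0) = u := by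
  have h1 : u * u = 1 := by rw [← pow_two, ← hu, pow_orderOf_eq_one]
  have h2 : u ≠ 1 := by rintro rfl; rw [orderOf_one] at hu; norm_num at hu
  rcases OddHalf.D4.Spor.HN.inv_cases h1 h2 with ⟨g, hg⟩ | ⟨g, hg⟩
  · exfalso
    rw [← hg, HSFix.card_conj] at h7
    rw [show Nat.card ↥(centralizer ({W0} : Set Spor.HN)) = 3686400 from KFacts.HN.card_PP] at h7
    norm_num at h7
  · exact ⟨MulAut.conj g, hg⟩

theorem topP_hn : TopP Spor.HN (Cfsg.Agent.HN.XWords.Q 0) CTwoTab.HN.N where
  le := CTwoTab.HN.N_le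
  perf := by
    have h : commutator ↥CTwoTab.HN.N = ⊤ := CTwoTab.HN.qs_N.1.1
    have h1 := congrArg (Subgroup.map CTwoTab.HN.N.subtype) h
    rwa [_root_.commutator_def, map_commutator, ← MonoidHom.range_eq_map, range_subtype] at h1
  max := CTwoTab.HN.le_N

/-- **`HN`, `n = 9`** -/
theorem row_hn9 (S : AltCore.Sit X 9) (h : Spor.IsoHN X) : False := by
  obtain ⟨ex⟩ := h
  have hcard : Nat.card X = 273030912000000 := by
    rw [Nat.card_congr ex.toEquiv]
    exact KFacts.HN.Classes.card_HN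
  have hw : orderOf (el S p7_mem : X) = 7 := by
    rw [orderOf_el]
    have : Fact (Nat.Prime 7) := ⟨by norm_num⟩
    exact orderOf_eq_prime (by decide +kernel) (by decide +kernel)
  obtain ⟨z, hz, hz7⟩ := RowsB.Inv.congr ex.symm RowsB.inv_hn7
  have he := Parity.even_cent_of_small (by norm_num : Nat.Prime 7) (by rw [hcard]; norm_num) hz hz7 hw
  obtain ⟨u, hu, htu, huw, σ, hσ2, hσ, hσc⟩ := S.exists_invo (by norm_num) (el S p7_mem) he
  rw [e_el] at hσc
  obtain ⟨s, h1, h2, h3⟩ := fix_seven hσ2 hσc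
  have h7 : 7 ∣ Nat.card ↥(centralizer ({u} : Set X)) := by
    have h4 : orderOf (⟨_, mem_centralizer_singleton_iff.2 huw.symm⟩ : ↥(centralizer ({u} : Set X))) = 7 := by
      rw [Subgroup.orderOf_mk, hw]
    rw [← h4]
    exact orderOf_dvd_natCard _
  obtain ⟨g, hg⟩ := conj_Q0 (u := ex u) (by rw [MulEquiv.orderOf_eq, hu]) (by rwa [RowsB.card_cent_equiv])
  let f : Spor.HN ≃* X := g.trans ex.symm
  have hfu : f (Cfsg.Agent.HN.XWords.Q 0) = u := by
    change ex.symm (g _) = u
    rw [hg, ex.symm_apply_apply]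
  have T : TopP X u (CTwoTab.HN.N.map f.toMonoidHom) := hfu ▸ RowsF.topP_map f topP_hn
  set N := CTwoTab.HN.N.map f.toMonoidHom with hN
  obtain ⟨q⟩ := CTwoTab.HN.quo_equiv
  let eN : ↥N ≃* Cfsg.Agent.HN.HS100.K :=
    (CTwoTab.HN.N.equivMapOfInjective f.toMonoidHom f.injective).symm.trans CTwoTab.HN.eN.symm
  let eq : ↥N ⧸ center ↥N ≃* Spor.HS := (RowsF.quoEquiv eN).trans q
  obtain ⟨D⟩ := KFacts.HS.exists_mod (⟨eq⟩ : Spor.IsoHS (↥N ⧸ center ↥N))
  have hsHS := CTwoTab.HN.simple_HS
  have hsL : IsSimpleGroup (↥N ⧸ center ↥N) := eq.isSimpleGroup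
  have hc : Nat.card ↥s = 7 := by rw [Nat.card_eq_fintype_card, Fintype.card_coe, h2]
  have hperf : commutator ↥(alternatingGroup ↥s) = ⊤ := commutator_alternatingGroup_eq_top (by omega)
  have hcen : center ↥(alternatingGroup ↥s) = ⊥ := alternatingGroup.center_eq_bot (by omega)
  have hB : (gA S s).range ≤ N := by
    apply T.max _ _ (range_perf hperf _)
    rintro _ ⟨a, rfl⟩
    rw [mem_centralizer_singleton_iff]
    exact (mul_inv_eq_iff_eq_mul.1 (gA_comm S htu hσ h1 a)).symm
  let φ : ↥(alternatingGroup ↥s) →* ↥N ⧸ center ↥N :=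
    (QuotientGroup.mk' (center ↥N)).comp ((gA S s).codRestrict N (fun a => hB ⟨a, rfl⟩))
  have hφ : Function.Injective φ := by
    rw [injective_iff_map_eq_one]
    intro a ha
    have h4 : (gA S s).codRestrict N (fun a => hB ⟨a, rfl⟩) a ∈ center ↥N := (QuotientGroup.eq_one_iff _).1 ha
    rw [mem_center_iff] at h4
    have h5 : a ∈ center ↥(alternatingGroup ↥s) := by
      rw [mem_center_iff]
      intro b
      apply gA_injective S s
      rw [map_mul, map_mul]
      exact congrArg Subtype.val (h4 ((gA S s).codRestrict N (fun a => hB ⟨a, rfl⟩) b))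
    rw [hcen] at h5
    exact h5
  have hna : ¬ IsMulCommutative (↥N ⧸ center ↥N) := by
    intro hc'
    have h4 : ∀ a : ↥(alternatingGroup ↥s), a ∈ center ↥(alternatingGroup ↥s) := by
      intro a
      rw [mem_center_iff]
      intro b
      apply hφ
      rw [map_mul, map_mul]
      exact hc'.is_comm.comm _ _
    have h5 : Nat.card ↥(alternatingGroup ↥s) = 1 := by
      rw [Nat.card_eq_one_iff_unique]
      refine ⟨⟨fun a b => ?_⟩, ⟨1⟩⟩
      have ha := h4 a
      have hb := h4 b
      rw [hcen, mem_bot] at ha hb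
      rw [ha, hb]
    rw [card_alt_seven h2] at h5
    norm_num at h5
  have hbb : bar (tau S.tt (fun x (hx : x ∈ N) => map_mem htu T hx)) *
      bar (tau S.tt (fun x (hx : x ∈ N) => map_mem htu T hx)) = 1 := by
    ext x
    obtain ⟨y, rfl⟩ := QuotientGroup.mk'_surjective _ x
    rw [MulAut.mul_apply, bar_mk, bar_mk, MulAut.one_apply]
    congr 1
    exact Subtype.ext (DFunLike.congr_fun S.tt (y : X))
  have h6 := HSFix.main D (CpAut.center_eq_bot_of_simple hna)
    (bar (tau S.tt (fun x (hx : x ∈ N) => map_mem htu T hx))) hbb φ hφ (fun b => by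
      change bar _ (QuotientGroup.mk' (center ↥N) _) = QuotientGroup.mk' (center ↥N) _
      rw [bar_mk]
      congr 1
      exact Subtype.ext (S.fix _ (gA_mem S s b))) (card_alt_seven h2) hcen hperf
  have h8 := two_pow_dvd S (by norm_num) htu hσ T h6
  rw [h3] at h8
  norm_num at h8

end Cfsg.Agent.H291.RowsH
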