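import Cfsg.Agent.H291.PslRow
import Cfsg.Agent.H287.FixInnB
import Cfsg.Agent.H287.InnON
import Cfsg.Agent.H287.TwoAlt
import Cfsg.Agent.SevenCases.TabLie
import Cfsg.Agent.S2119

/-!
# `A_n`, `n ≥ 8`, is not a component of an involution centralizer of a sporadic group (helper291)
-/

set_option autoImplicit false
set_option linter.unusedSectionVars false

open Subgroup Cfsg

namespace Cfsg.Agent.H291.RowsI

open Cfsg.Agent.H287 Cfsg.Agent.NotCT Cfsg.Agent.CTwoTab

universe u v

/-- the orders `n! / 2`, `n ≥ 8` -/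
def AltN (N : ℕ) : Prop := ∃ n : ℕ, 8 ≤ n ∧ N = n.factorial / 2

theorem between {a N : ℕ} (ha : 2 ≤ a) (h1 : a.factorial < 2 * N) (h2 : 2 * N < (a + 1).factorial) : ¬ AltN N := by
  rintro ⟨n, hn, rfl⟩
  have h3 : 2 * (n.factorial / 2) = n.factorial :=
    Nat.mul_div_cancel' (Nat.dvd_factorial (by norm_num) (by omega))
  rw [h3] at h1 h2
  have h4 : a < n := (Nat.factorial_lt (by omega)).1 h1
  have h5 : n < a + 1 := (Nat.factorial_lt (by omega)).1 h2
  omega

theorem small {N : ℕ} (h : N < 20160) : ¬ AltN N := by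
  rintro ⟨n, hn, rfl⟩
  have h1 : (8 : ℕ).factorial ≤ n.factorial := Nat.factorial_le hn
  have h2 : (8 : ℕ).factorial = 40320 := by decide
  omega

variable {X : Type u} [Group X] [Finite X] {z : X} {K : Subgroup X} {n : ℕ}

/-- the order of `K ≅ A_n` and of `K / Z(K)` -/
theorem cards (hn : 8 ≤ n) (e : ↥K ≃* ↥(alternatingGroup (Fin n))) :
    AltN (Nat.card ↥K) ∧ Nat.card ↥K = Nat.card (↥K ⧸ center ↥K) := by
  obtain ⟨h1, h2⟩ := cards_alt (by omega) e
  exact ⟨⟨n, hn, h1⟩, by rw [h1, h2]⟩

/-- a row -/
theorem row_of {S : ℕ → ℕ → Prop} (h : CompCard S X) (hS : ∀ a b, S a b → a = b → ¬ AltN a) (hz : orderOf z = 2)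
    (hK : IsComponentOf K (centralizer ({z} : Set X))) (hn : 8 ≤ n) (e : ↥K ≃* ↥(alternatingGroup (Fin n))) : False := by
  obtain ⟨h1, h2⟩ := cards hn e
  exact hS _ _ (h z hz K hK) h2 h1

theorem row_fix {S : ℕ → ℕ → Prop} (hc : center X = ⊥) (h : FixCard S X) (hS : ∀ a b, S a b → a = b → ¬ AltN a)
    (hz : orderOf z = 2)
    (hK : IsComponentOf K (centralizer ({z} : Set X))) (hn : 8 ≤ n) (e : ↥K ≃* ↥(alternatingGroup (Fin n))) : False :=
  row_of (h.compCard hc) hS hz hK hn e

theorem not_seven (hn : 8 ≤ n)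
    (e : ↥K ≃* ↥(alternatingGroup (Fin n))) : 20160 ∣ Nat.card X := by
  have h1 : Nat.card ↥(alternatingGroup (Fin n)) = n.factorial / 2 := TwoAlt.card_alt (by omega)
  have h2 : Nat.card ↥K = n.factorial / 2 := by rw [Nat.card_congr e.toEquiv, h1]
  have h3 : (8 : ℕ).factorial ∣ n.factorial := Nat.factorial_dvd_factorial hn
  have h4 : (8 : ℕ).factorial = 2 * 20160 := by decide
  have h5 : 2 * (n.factorial / 2) = n.factorial :=
    Nat.mul_div_cancel' (Nat.dvd_factorial (by norm_num) (by omega))
  have h6 : 20160 ∣ n.factorial / 2 := by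
    rw [h4, ← h5] at h3
    exact Nat.dvd_of_mul_dvd_mul_left (by norm_num) h3
  exact (h6.trans h2.symm.dvd).trans (card_subgroup_dvd_card K)

/-- the group `A₈` is not isomorphic to the component `L₃(4)` of `Suz` -/
theorem row_suz (h : Spor.IsoSuz X) (hz : orderOf z = 2) (hK : IsComponentOf K (centralizer ({z} : Set X)))
    (hn : 8 ≤ n) (e : ↥K ≃* ↥(alternatingGroup (Fin n))) : False := by
  have hcard := compCard_suz h z hz K hK
  obtain ⟨f⟩ := h
  have h1 := isComponentOf_map f hK
  rw [map_centralizer_singleton] at h1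
  obtain ⟨c, -, hc⟩ := CTwoTab.Suz.comp_cases (by rw [MulEquiv.orderOf_eq, hz]) h1
  have e1 := ((subMap f K).trans (subMap (MulAut.conj c).symm _)).trans (MulEquiv.subgroupCongr hc)
  have hn8 : n = 8 := by
    by_contra hne
    have h2 : (9 : ℕ).factorial ≤ n.factorial := Nat.factorial_le (by omega)
    have h3 := (cards_alt (by omega) e).1
    rw [hcard.1] at h3
    have h4 : (9 : ℕ).factorial = 362880 := by decide
    omega
  subst hn8
  exact Cfsg.Agent.ResEven.AltTwelve.not_l34 (F := SporadicA.FieldFour.F4) rfl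
    ((e.symm.trans e1).trans Cfsg.Agent.CTwoTab.SuzPlane.equiv)

theorem row_b (h : Spor.IsoB X) (hz : orderOf z = 2) (hK : IsComponentOf K (centralizer ({z} : Set X)))
    (hn : 8 ≤ n) (e : ↥K ≃* ↥(alternatingGroup (Fin n))) : False := by
  obtain ⟨K4, _, _, hK4⟩ := BabyTab.exists_field
  obtain ⟨f⟩ := h
  have h1 := isComponentOf_map f hK
  rw [map_centralizer_singleton] at h1
  have h2 := (BabyTab.table K4 hK4 (f z) (by rw [MulEquiv.orderOf_eq, hz]) _ h1).congr (subMap f K).symm
  have : Finite (Lie.twistedE6 K4 2) := Nat.finite_of_card_ne_zero (by rw [BabyTab.card_E K4 hK4]; norm_num)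
  have hE : center (Lie.twistedE6 K4 2) = ⊥ := CpAut.TwoInner.center_eq_bot_of_card
    (MonsterN.EInst.isSimple K4 hK4) (by rw [BabyTab.card_E K4 hK4]; norm_num)
  have : IsSimpleGroup ↥K := simple_alt (by omega) e
  have hz' : center ↥K = ⊥ := CTwoTab.center_eq_bot_of_simple (na_alt (by omega) e)
  have e1 : ↥K ⧸ center ↥K ≃* ↥(alternatingGroup (Fin n)) :=
    ((QuotientGroup.quotientMulEquivOfEq hz').trans QuotientGroup.quotientBot).trans e
  have h3 := h2.cases hE e1
  rw [BabyTab.card_E K4 hK4] at h3
  have h4 : Nat.card ↥(alternatingGroup (Fin n)) = n.factorial / 2 := TwoAlt.card_alt (by omega)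
  have h5 : 2 * (n.factorial / 2) = n.factorial :=
    Nat.mul_div_cancel' (Nat.dvd_factorial (by norm_num) (by omega))
  have h6 : n.factorial ∣ 2 * 76532479683774853939200 := by
    rw [← h5, ← h4]
    rcases h3 with h3 | h3
    · rw [h3]
    · exact Nat.mul_dvd_mul_left 2 h3.1
  have h7 : n ≤ 14 := by
    by_contra hne
    have h8 : (15 : ℕ).factorial ∣ 2 * 76532479683774853939200 := (Nat.factorial_dvd_factorial (by omega)).trans h6
    revert h8
    decide
  have h8 : n.factorial ≤ (14 : ℕ).factorial := Nat.factorial_le h7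
  have h9 : (14 : ℕ).factorial = 87178291200 := by decide
  rcases h3 with h3 | ⟨-, h3⟩
  · rw [h4] at h3
    omega
  · have h10 : Nat.card (MulAut ↥(alternatingGroup (Fin n))) = n.factorial := by
      rw [← Nat.card_congr (Equiv.ofBijective _ (S2119.result n (by omega) (by omega))), Nat.card_perm, Nat.card_fin]
    rw [h10] at h3
    have h11 : 13571955000 * n.factorial ≤ 13571955000 * 87178291200 := Nat.mul_le_mul_left _ (h9 ▸ h8)
    have h12 := h3.trans h11
    norm_num at h12

/-- **No component `A_n`, `n ≥ 8`.** -/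
theorem inner [IsSimpleGroup X] (h : IsSporadicGroup X ∨ Lie.IsoTits X) (hz : orderOf z = 2)
    (hK : IsComponentOf K (centralizer ({z} : Set X))) (hn : 8 ≤ n) (e : ↥K ≃* ↥(alternatingGroup (Fin n))) : False := by
  have hd := not_seven hn e
  have hc : center X = ⊥ := by
    refine CpAut.TwoInner.center_eq_bot_of_card inferInstance ?_
    intro hp
    have h2 : 2 ∣ Nat.card X := (by norm_num : 2 ∣ 20160).trans hd
    have h3 : 3 ∣ Nat.card X := (by norm_num : 3 ∣ 20160).trans hd
    have h4 := (Nat.prime_dvd_prime_iff_eq Nat.prime_two hp).1 h2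
    have h5 := (Nat.prime_dvd_prime_iff_eq Nat.prime_three hp).1 h3
    omega
  rcases h with h | h
  · rcases h with h | h | h | h | h | h | h | h | h | h | h | h | h | h | h | h | h | h | h | h | h | h | h | h | h | h
    · exact row_fix hc (fix_m11 h) (fun _ _ h => h.elim) hz hK hn e
    · exact row_of (compCard_m12 h) (fun a b h _ => small (by omega)) hz hK hn e
    · exact row_of (compCard_m22 h) (fun _ _ h => h.elim) hz hK hn e
    · exact row_fix hc (fix_m23 h) (fun _ _ h => h.elim) hz hK hn e
    · exact row_fix hc (fix_m24 h) (fun _ _ h => h.elim) hz hK hn e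
    · exact row_of (compCard_j1 h) (fun a b h _ => small (by omega)) hz hK hn e
    · exact row_of (compCard_j2 h) (fun a b h _ => small (by omega)) hz hK hn e
    · exact row_of (compCard_j3 h) (fun _ _ h => h.elim) hz hK hn e
    · exact row_fix hc (fix_j4 h) (fun _ _ h => h.elim) hz hK hn e
    · refine row_fix hc (fix_co1 h) (fun a b h _ => ?_) hz hK hn e
      rw [h.1]
      exact between (a := 12) (by norm_num) (by decide) (by decide)
    · exact row_fix hc (fix_co2 h) (fun _ _ h => h.elim) hz hK hn e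
    · refine row_fix hc (fix_co3 h) (fun a b h hab => ?_) hz hK hn e
      have h1 : a = 95040 := by omega
      rw [h1]
      exact between (a := 8) (by norm_num) (by decide) (by decide)
    · exact row_of (TwoAlt.compCard_mcl h) (fun a b h hab => by omega) hz hK hn e
    · exact row_of (compCard_hs h) (fun a b h _ => small (by omega)) hz hK hn e
    · exact row_suz h hz hK hn e
    · exact row_of (compCard_he h) (fun a b h hab => by omega) hz hK hn e
    · refine row_of (compCard_ru h) (fun a b h _ => ?_) hz hK hn e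
      rw [h.1]
      exact between (a := 8) (by norm_num) (by decide) (by decide)
    · exact row_of (InnON.compCard h) (fun a b h hab => by omega) hz hK hn e
    · exact row_of (TwoAlt.compCard_ly h) (fun a b h hab => by omega) hz hK hn e
    · exact row_of (compCard_fi22 h) (fun a b h hab => by omega) hz hK hn e
    · refine row_fix hc (fix_fi23 h) (fun a b h hab => ?_) hz hK hn e
      have h1 : a = 9196830720 := by omega
      rw [h1]
      exact between (a := 13) (by norm_num) (by decide) (by decide)
    · exact row_of (compCard_fi24 h) (fun a b h hab => by omega) hz hK hn e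
    · exact row_of (compCard_hn h) (fun a b h hab => by omega) hz hK hn e
    · exact row_fix hc (fix_th h) (fun _ _ h => h.elim) hz hK hn e
    · exact row_b h hz hK hn e
    · exact row_fix hc (fix_m h) (fun a b h hab => by omega) hz hK hn e
  · rw [Orders.tits h] at hd
    revert hd
    decide

end Cfsg.Agent.H291.RowsI
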