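import Cfsg.Agent.H291.RowsD
import Cfsg.Agent.H291.RowsG
import Cfsg.Agent.H291.RowsH
import Cfsg.Agent.H291.RowsI
import Cfsg.Agent.H291.FiOut
import Cfsg.Agent.CpAut.TwoFrame
import Cfsg.Agent.HoltZ.Final
import Cfsg.Agent.NotResT.All
import Cfsg.Agent.NotResT.Listed
import Cfsg.Agent.OrdDiv.Table

/-!
# `A_n`, `n ≥ 8`, in the fixed points of an outer automorphism of a sporadic group (helper291)
-/

set_option autoImplicit false
set_option linter.unusedSectionVars false

open Subgroup Cfsg

namespace Cfsg.Agent.H291.RowsJ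

open Cfsg.Agent.H287 Cfsg.Agent.NotCT Cfsg.Agent.CTwoTab

universe u v

variable {X : Type u} [Group X] {n : ℕ} (S : AltCore.Sit X n)

/-- `A` in `C_X(t)` -/
def AF : Subgroup ↥(fixedSubgroup S.t) := S.A.subgroupOf (fixedSubgroup S.t)

theorem le_fix : S.A ≤ fixedSubgroup S.t := fun a ha => S.fix a ha

noncomputable def eAF : ↥(AF S) ≃* ↥(alternatingGroup (Fin n)) := (subgroupOfEquivOfLe (le_fix S)).trans S.e

theorem comp (hn : 5 ≤ n) : IsComponent (AF S) := by
  have hN : (AF S).Normal := by
    refine ⟨fun a ha y => ?_⟩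
    exact S.norm y y.2 a ha
  exact ⟨hN.isSubnormal, quasi_alt hn (eAF S)⟩

theorem orderOf_t (hout : ∀ k, S.t ≠ MulAut.conj k) : orderOf S.t = 2 := by
  refine orderOf_eq_prime (by rw [pow_two]; exact S.tt) ?_
  intro h
  exact hout 1 (by rw [h, map_one])

variable [Finite X]

theorem row_fi24 (hn : 8 ≤ n) (hout : ∀ k, S.t ≠ MulAut.conj k) (h : Spor.IsoFi24' X) : False := by
  have h1 := (FiOut.outCard h) S.t (orderOf_t S hout) (fun ⟨g, hg⟩ => hout g hg) _ (comp S (by omega))
  obtain ⟨h2, h3⟩ := cards_alt (by omega) (eAF S)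
  rw [h2, h3] at h1
  unfold FiOut.SF at h1
  have h4 : n.factorial / 2 = 4089470473293004800 := by omega
  exact RowsI.between (a := 20) (N := 4089470473293004800) (by norm_num) (by decide) (by decide) ⟨n, hn, h4.symm⟩

/-- degree at least 9, `X` with `AutC 2 X` -/
theorem row_autC (hn : 9 ≤ n) (hout : ∀ k, S.t ≠ MulAut.conj k) (h : CpAut.AutC 2 X) : False := by
  have hs : IsSimpleGroup ↥(AF S) := simple_alt (by omega) (eAF S)
  have hcard := (cards_alt (by omega) (eAF S)).1
  have h2 : 2 ∣ Nat.card ↥(AF S) := by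
    rw [hcard]
    have h3 : (8 : ℕ).factorial ∣ n.factorial := Nat.factorial_dvd_factorial (by omega)
    have h4 : (8 : ℕ).factorial = 40320 := by decide
    rw [h4] at h3
    obtain ⟨k, hk⟩ := h3
    omega
  have h1 := RowsD.inC_of_autC h (orderOf_t S hout) (comp S (by omega)) hs h2
  have hz : center ↥(AF S) = ⊥ := CTwoTab.center_eq_bot_of_simple (na_alt (by omega) (eAF S))
  exact HoltZ.EvenAlt.alt_not_inC NotResT.Inst.chevCharTwo NotResT.Listed.listedCard (Or.inr hn)
    (((QuotientGroup.quotientMulEquivOfEq hz).trans QuotientGroup.quotientBot).trans (eAF S)) h1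

include S in
/-- a multiple of 13 -/
theorem row_hn13 (hn : 13 ≤ n) (h : Spor.IsoHN X) : False := by
  have h1 := RowsC.card_alt_dvd S (by omega)
  rw [Orders.hn h] at h1
  have h2 : (13 : ℕ).factorial ∣ n.factorial := Nat.factorial_dvd_factorial hn
  have h3 : n.factorial ∣ 2 * 273030912000000 := by
    have h5 : 2 * (n.factorial / 2) = n.factorial :=
      Nat.mul_div_cancel' (Nat.dvd_factorial (by norm_num) (by omega))
    rw [← h5]
    exact Nat.mul_dvd_mul_left 2 h1
  have h4 := h2.trans h3
  revert h4
  decide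

theorem row_out (x : MulAut X) (h : ∀ α : MulAut X, ∃ g : X, α = MulAut.conj g)
    (hout : ∀ k, x ≠ MulAut.conj k) : False := by
  obtain ⟨g, hg⟩ := h x
  exact hout g hg

/-- **The outer automorphisms.** -/
theorem outer (H1170 : GTwoRows.ONQuot.H1170) (HT : CpAut.TwoRows) (hn : 8 ≤ n) (hout : ∀ k, S.t ≠ MulAut.conj k)
    (h : IsSporadicGroup X ∨ Lie.IsoTits X) : (n = 8 ∧ Spor.IsoHS X) ∨ (n = 10 ∧ Spor.IsoHN X) := by
  have T : OrdDiv.OrderTable.{u} := OrdDiv.table
  have hd := RowsC.dvd_eight S hn
  rcases h with h | h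
  · rcases h with h | h | h | h | h | h | h | h | h | h | h | h | h | h | h | h | h | h | h | h | h | h | h | h | h | h
    · obtain ⟨e⟩ := h
      exact (row_out S.t (CpAut.TwoInner.inner_congr e fun α => inner_of_out S2060.result α) hout).elim
    · exact (RowsC.row_m12 T S hn h).elim
    · by_cases h8 : n = 8
      · subst h8
        exact (RowsC.row_m22 T S h).elim
      · exact (RowsC.row_nine T S (by omega) (Or.inl h)).elim
    · obtain ⟨e⟩ := h
      exact (row_out S.t (CpAut.TwoInner.inner_congr e fun α => inner_of_out S2063.result α) hout).elim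
    · obtain ⟨e⟩ := h
      exact (row_out S.t (CpAut.TwoInner.inner_congr e fun α => inner_of_out S2064.result α) hout).elim
    · rw [Orders.j1 h] at hd
      exact absurd hd (by decide)
    · by_cases h8 : n = 8
      · subst h8
        exact (RowsC.row_j2 S hout h).elim
      · exact (RowsC.row_nine T S (by omega) (Or.inr (Or.inl h))).elim
    · exact (RowsC.row_j3 T S hn h).elim
    · obtain ⟨e⟩ := h
      exact (row_out S.t (CpAut.TwoInner.inner_congr e fun α => inner_of_out S2068.result α) hout).elim
    · obtain ⟨e⟩ := h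
      exact (row_out S.t (CpAut.TwoInner.inner_congr e fun α => inner_of_out S2069.result α) hout).elim
    · obtain ⟨e⟩ := h
      exact (row_out S.t (CpAut.TwoInner.inner_congr e fun α => inner_of_out S2070.result α) hout).elim
    · obtain ⟨e⟩ := h
      exact (row_out S.t (CpAut.TwoInner.inner_congr e fun α => inner_of_out S2071.result α) hout).elim
    · by_cases h8 : n = 8
      · exact (RowsB.row_seven T S (Or.inr h8) (Or.inr (Or.inr (Or.inr h)))).elim
      · exact (RowsC.row_mcl S (by omega) h).elim
    · by_cases h8 : n = 8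
      · exact Or.inl ⟨h8, h⟩
      · exact (RowsC.row_nine T S (by omega) (Or.inr (Or.inr (Or.inl h)))).elim
    · by_cases h8 : n = 8
      · exact (RowsB.row_seven T S (Or.inr h8) (Or.inl h)).elim
      · obtain ⟨e⟩ := h
        exact (row_autC S (by omega) hout (HT.suz.congr e.symm)).elim
    · by_cases h8 : n = 8
      · subst h8
        obtain ⟨e⟩ := h
        exact (RowsF.row_kind S (RowsF.kind_he.congr e.symm) (RowsF.ev5_he.congr e.symm)).elim
      · exact (RowsC.row_nine T S (by omega) (Or.inr (Or.inr (Or.inr h)))).elim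
    · obtain ⟨e⟩ := h
      exact (row_out S.t (CpAut.TwoInner.inner_congr e fun α => inner_of_out S2077.result α) hout).elim
    · by_cases h8 : n = 8
      · subst h8
        obtain ⟨e⟩ := h
        exact (RowsF.row_kind S ((RowsF.kind_on (GTwoRows.ONQuot.quot H1170)).congr e.symm)
          (RowsF.ev5_on.congr e.symm)).elim
      · exact (RowsG.row_on S (by omega) h).elim
    · obtain ⟨e⟩ := h
      exact (row_out S.t (CpAut.TwoInner.inner_congr e fun α => inner_of_out S2076.result α) hout).elim
    · by_cases h8 : n = 8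
      · exact (RowsB.row_seven T S (Or.inr h8) (Or.inr (Or.inl h))).elim
      · obtain ⟨e⟩ := h
        exact (row_autC S (by omega) hout (HT.fi22.congr e.symm)).elim
    · obtain ⟨e⟩ := h
      exact (row_out S.t (CpAut.TwoInner.inner_congr e fun α => inner_of_out S2080.result α) hout).elim
    · exact (row_fi24 S hn hout h).elim
    · by_cases h8 : n = 8
      · exact (RowsB.row_seven T S (Or.inr h8) (Or.inr (Or.inr (Or.inl h)))).elim
      by_cases h9 : n = 9
      · subst h9
        exact (RowsH.row_hn9 S h).elim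
      by_cases h10 : n = 10
      · exact Or.inr ⟨h10, h⟩
      by_cases h12 : n ≤ 12
      · exact (RowsB.row_eleven T S (by omega) h).elim
      · exact (row_hn13 S (by omega) h).elim
    · obtain ⟨e⟩ := h
      exact (row_out S.t (CpAut.TwoInner.inner_congr e fun α => inner_of_out S2083.result α) hout).elim
    · obtain ⟨e⟩ := h
      exact (row_out S.t (CpAut.TwoInner.inner_congr e fun α => inner_of_out S2084.result α) hout).elim
    · obtain ⟨e⟩ := h
      exact (row_out S.t (CpAut.TwoInner.inner_congr e fun α => inner_of_out S2085.result α) hout).elim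
  · rw [Orders.tits h] at hd
    exact absurd hd (by decide)

end Cfsg.Agent.H291.RowsJ
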