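import Cfsg.Agent.H291.RowsI
import Cfsg.Agent.H291.RowsJ
import Cfsg.Agent.H284.FStd
import Cfsg.Agent.SignalizersComponents.StandardTrichotomy

/-!
# `A_n`, `n ≥ 8`, as a component of `C_X(x)`, `X` sporadic (helper291)

* `main` : `X` sporadic (or the Tits group), `x` an involutory automorphism of `X`, `A ≅ A_n`, `n ≥ 8`, a normal component
  of `C_X(x)`; if `x` is outer, no involution of `C_X(x)` centralizes `A`. Then `n = 8` and `X ≅ HS` or `n = 10` and
  `X ≅ HN`.
* `of_standard` : `X ⊴ G`, `C_G(X) = 1`, `A ≤ X` standard in `G`, `C_G(A)` with cyclic Sylow 2-subgroups.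
-/

set_option autoImplicit false

open Subgroup Cfsg

namespace Cfsg.Agent.H291.AltSpor

open Cfsg.Agent.SignalizersComponents.Components

universe u

variable {X : Type u} [Group X] [Finite X]

/-- the situation of `AltCore` -/
noncomputable def sit {x : MulAut X} (hx : x * x = 1) {A : Subgroup ↥(fixedSubgroup x)} (hAn : A.Normal)
    {n : ℕ} (e : ↥A ≃* ↥(alternatingGroup (Fin n)))
    (hodd : ∀ u : ↥(fixedSubgroup x), orderOf u = 2 → ∃ a ∈ A, u * a ≠ a * u) : AltCore.Sit X n where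
  t := x
  tt := hx
  A := A.map (fixedSubgroup x).subtype
  fix := by
    rintro _ ⟨a, -, rfl⟩
    exact a.2
  norm := by
    rintro y hy _ ⟨a, ha, rfl⟩
    exact ⟨_, hAn.conj_mem a ha ⟨y, hy⟩, rfl⟩
  e := (A.equivMapOfInjective _ (fixedSubgroup x).subtype_injective).symm.trans e
  odd := by
    intro u hu hxu
    have hxu' : u ∈ fixedSubgroup x := hxu
    obtain ⟨a, ha, hne⟩ := hodd ⟨u, hxu'⟩ (by rw [← hu, Subgroup.orderOf_mk])
    exact ⟨a, ⟨a, ha, rfl⟩, fun h => hne (Subtype.ext h)⟩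

/-- **Alternating components in the sporadic groups.** -/
theorem main [IsSimpleGroup X] (H1170 : GTwoRows.ONQuot.H1170) (HT : CpAut.TwoRows)
    (h : IsSporadicGroup X ∨ Lie.IsoTits X) {x : MulAut X} (hx : x * x = 1) (hx1 : x ≠ 1)
    {A : Subgroup ↥(fixedSubgroup x)} (hAn : A.Normal) {n : ℕ} (hn : 8 ≤ n)
    (e : ↥A ≃* ↥(alternatingGroup (Fin n)))
    (hodd : (∀ k, x ≠ MulAut.conj k) → ∀ u : ↥(fixedSubgroup x), orderOf u = 2 → ∃ a ∈ A, u * a ≠ a * u) :
    (n = 8 ∧ Spor.IsoHS X) ∨ (n = 10 ∧ Spor.IsoHN X) := by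
  by_cases hin : ∃ k, x = MulAut.conj k
  · exfalso
    obtain ⟨k, rfl⟩ := hin
    have hA : IsComponent A := ⟨hAn.isSubnormal, CTwoTab.quasi_alt (by omega) e⟩
    -- `k` is an involution
    have hc : center X = ⊥ := by
      rcases (inferInstance : (center X).Normal).eq_bot_or_eq_top with h1 | h1
      · exact h1
      · exfalso
        apply hx1
        ext y
        have h2 : k ∈ center X := by rw [h1]; exact mem_top k
        rw [MulAut.conj_apply, mul_inv_eq_iff_eq_mul, MulAut.one_apply]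
        exact ((mem_center_iff.1 h2) y).symm
    have ho : orderOf k = 2 := by
      rw [← CpAut.orderOf_conj hc k]
      exact orderOf_eq_prime (by rw [pow_two]; exact hx) hx1
    have hmap : (A.map (fixedSubgroup (MulAut.conj k)).subtype).subgroupOf (fixedSubgroup (MulAut.conj k)) = A := by
      rw [subgroupOf, comap_map_eq_self_of_injective (fixedSubgroup (MulAut.conj k)).subtype_injective]
    have h1 : IsComponentOf (A.map (fixedSubgroup (MulAut.conj k)).subtype) (centralizer ({k} : Set X)) := by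
      rw [← CpAut.fixedSubgroup_conj]
      exact ⟨map_subtype_le A, by rwa [hmap]⟩
    exact RowsI.inner h ho h1 hn
      ((A.equivMapOfInjective _ (fixedSubgroup (MulAut.conj k)).subtype_injective).symm.trans e)
  · push Not at hin
    exact RowsJ.outer (sit hx hAn e (hodd hin)) H1170 HT hn hin h

open Cfsg.Agent.H284.FStd in
/-- **Standard subgroups `A_n`, `n ≥ 8`, of almost simple groups of sporadic type.** -/
theorem of_standard {G : Type u} [Group G] [Finite G] {Y A : Subgroup G} [Y.Normal] [IsSimpleGroup ↥Y]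
    (H1170 : GTwoRows.ONQuot.H1170) (HT : CpAut.TwoRows)
    (h : IsSporadicGroup ↥Y ∨ Lie.IsoTits ↥Y) (hc : centralizer (Y : Set G) = ⊥) (hA : IsStandardSubgroup A)
    (hAY : A ≤ Y) {t : G} (ht : orderOf t = 2) (htA : t ∈ centralizer (A : Set G))
    (hR : ∀ u ∈ centralizer (A : Set G), orderOf u = 2 → t * u = u * t → u = t)
    {n : ℕ} (hn : 8 ≤ n) (e : ↥A ≃* ↥(alternatingGroup (Fin n))) :
    (n = 8 ∧ Spor.IsoHS ↥Y) ∨ (n = 10 ∧ Spor.IsoHN ↥Y) := by
  obtain ⟨h1, h2, h3⟩ := comp_fix hc hA hAY ht htA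
  have hBn : (BB Y A t).Normal := by
    refine ⟨fun a ha y => ?_⟩
    have hy : ((y : ↥Y) : G) ∈ centralizer ({t} : Set G) := by
      rw [mem_centralizer_singleton_iff]
      exact (mem_fix.1 y.2).symm
    have hn := SignalizersComponents.StandardTrichotomy.centralizer_involution_le hA ht htA hy
    exact (mem_normalizer_iff.1 hn _).1 ha
  refine main H1170 HT h h1 h2 hBn hn ((BBequiv hAY htA).trans e) ?_
  intro hout u hu
  by_contra hcon
  push Not at hcon
  -- `u` centralizes `A`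
  have hu2 : orderOf ((u : ↥Y) : G) = 2 := by rw [Subgroup.orderOf_coe, Subgroup.orderOf_coe, hu]
  have huA : ((u : ↥Y) : G) ∈ centralizer (A : Set G) := by
    rw [mem_centralizer_iff]
    intro a ha
    have h4 : (⟨a, hAY ha⟩ : ↥Y) ∈ fixedSubgroup (MulAut.conjNormal t : MulAut ↥Y) := le_fix htA (mem_subgroupOf.2 ha)
    have h5 := hcon ⟨⟨a, hAY ha⟩, h4⟩ ha
    exact (congrArg (fun z : ↥(fixedSubgroup (MulAut.conjNormal t : MulAut ↥Y)) => ((z : ↥Y) : G)) h5).symm
  have h6 := hR _ huA hu2 (mem_fix.1 u.2)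
  have h7 : ∀ y : ↥Y, (MulAut.conjNormal t : MulAut ↥Y) y = MulAut.conj (u : ↥Y) y := by
    intro y
    apply Subtype.ext
    rw [MulAut.conjNormal_apply]
    change t * (y : G) * t⁻¹ = ((u : ↥Y) : G) * y * ((u : ↥Y) : G)⁻¹
    rw [h6]
  exact hout (u : ↥Y) (MulEquiv.ext h7)

end Cfsg.Agent.H291.AltSpor
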