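import Cfsg.Agent.H291.RowsA
import Cfsg.Agent.OrdDiv.Main
import Cfsg.Agent.KFacts.SuzTwoB
import Cfsg.Agent.CpAutHN.Pairs
import Cfsg.Agent.R01.Fi22Facts
import Cfsg.Agent.S2132

/-!
# Involutions commuting with elements of order 7 or 11 in `Suz`, `Fi22`, `HN`, `McL` (helper291)

`Inv r X` : some involution of `X` has a centralizer of order divisible by `r`.
-/

set_option autoImplicit false

namespace Cfsg.Agent.H291.RowsB

open Subgroup Equiv Cfsg Cfsg.Agent.H291 Cfsg.Agent.OrdDiv

universe u v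

/-- some involution has a centralizer of order divisible by `r` -/
def Inv (r : ℕ) (X : Type u) [Group X] : Prop :=
  ∃ z : X, orderOf z = 2 ∧ r ∣ Nat.card ↥(centralizer ({z} : Set X))

theorem card_cent_equiv {X : Type u} {Y : Type v} [Group X] [Group Y] (e : X ≃* Y) (x : X) :
    Nat.card ↥(centralizer ({e x} : Set Y)) = Nat.card ↥(centralizer ({x} : Set X)) := by
  have h : centralizer ({e x} : Set Y) = (centralizer ({x} : Set X)).map e.toMonoidHom := by
    ext y
    rw [mem_centralizer_singleton_iff, mem_map]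
    constructor
    · intro hy
      refine ⟨e.symm y, ?_, by simp⟩
      rw [mem_centralizer_singleton_iff]
      apply e.injective
      simpa using hy
    · rintro ⟨x', hx', rfl⟩
      rw [mem_centralizer_singleton_iff] at hx'
      change e x' * e x = e x * e x'
      rw [← map_mul, ← map_mul, hx']
  rw [h]
  exact (Nat.card_congr ((centralizer ({x} : Set X)).equivMapOfInjective _ e.injective).toEquiv).symm

theorem Inv.congr {r : ℕ} {X : Type u} {Y : Type v} [Group X] [Group Y] (e : X ≃* Y) (h : Inv r X) : Inv r Y := by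
  obtain ⟨z, h1, h2⟩ := h
  exact ⟨e z, by rw [MulEquiv.orderOf_eq, h1], by rwa [card_cent_equiv]⟩

theorem inv_suz : Inv 7 Spor.Suz := by
  refine ⟨KFacts.SuzLFour.e0, orderOf_eq_prime (by rw [pow_two]; exact KFacts.SuzLFour.e0_sq) KFacts.SuzLFour.e0_ne, ?_⟩
  have h := KFacts.SuzTwoB.card_CE
  rw [show Nat.card ↥(centralizer ({KFacts.SuzLFour.e0} : Set Spor.Suz)) = 161280 from h]
  norm_num

theorem inv_hn7 : Inv 7 Spor.HN :=
  ⟨CpAutHN.Pairs.tt, CpAutHN.Pairs.order_tt, by
    rw [show Nat.card ↥(centralizer ({CpAutHN.Pairs.tt} : Set Spor.HN)) = 177408000 from CpAutHN.Pairs.card_cent_tt]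
    norm_num⟩

theorem inv_hn11 : Inv 11 Spor.HN :=
  ⟨CpAutHN.Pairs.tt, CpAutHN.Pairs.order_tt, by
    rw [show Nat.card ↥(centralizer ({CpAutHN.Pairs.tt} : Set Spor.HN)) = 177408000 from CpAutHN.Pairs.card_cent_tt]
    norm_num⟩

/-- orbit-stabiliser for a class -/
theorem card_class {X : Type u} [Group X] [Finite X] (z : X) :
    (conjugatesOf z).ncard * Nat.card ↥(centralizer ({z} : Set X)) = Nat.card X := by
  classical
  have : Finite (ConjAct X) := inferInstanceAs (Finite X)
  have := Fintype.ofFinite (ConjAct X)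
  have := Fintype.ofFinite ↑(MulAction.orbit (ConjAct X) z)
  have := Fintype.ofFinite ↥(MulAction.stabilizer (ConjAct X) z)
  have h := MulAction.card_orbit_mul_card_stabilizer_eq_card_group (ConjAct X) z
  rw [← Nat.card_eq_fintype_card, ← Nat.card_eq_fintype_card, ← Nat.card_eq_fintype_card,
    ← Subgroup.nat_card_centralizer_nat_card_stabilizer] at h
  have h2 : MulAction.orbit (ConjAct X) z = conjugatesOf z := by
    ext y
    rw [ConjAct.mem_orbit_conjAct, isConj_comm]
    exact Iff.rfl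
  rw [h2] at h
  exact h

theorem inv_fi22 : Inv 7 Spor.Fi22 := by
  have := R01.Fi22Facts.finite
  obtain ⟨h1, ⟨d, hd, hT⟩, -⟩ := R01.Fi22Facts.isThreeTranspositionClass_T
  refine ⟨d, h1.1 d hd, ?_⟩
  have h2 := card_class d
  rw [← hT, R01.Fi22Facts.ncard_T, R01.Fi22Facts.card] at h2
  omega

theorem inv_mcl : Inv 7 ↥Spor.McL := by
  obtain ⟨-, t, ht, h1, ⟨e⟩, -⟩ := Cfsg.Agent.S2132.result
  refine ⟨t, ht, ?_⟩
  rw [card_eq_card_quotient_mul_card_subgroup (center _), Nat.card_congr e.toEquiv, h1,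
    nat_card_alternatingGroup, Nat.card_eq_fintype_card, Fintype.card_fin]
  decide

/-- 49 does not divide the order -/
theorem row_seven (T : OrderTable.{u}) {X : Type u} [Group X] [Finite X] {n : ℕ} (S : AltCore.Sit X n) (hn : n = 7 ∨ n = 8)
    (h : Spor.IsoSuz X ∨ Spor.IsoFi22 X ∨ Spor.IsoHN X ∨ Spor.IsoMcL X) : False := by
  have hp : Nat.Prime 7 := by norm_num
  have key : ¬ 7 ^ 2 ∣ Nat.card X ∧ Inv 7 X := by
    rcases h with h | h | h | h
    · rw [T.spor X (.suz, 448345497600) (by decide) h]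
      obtain ⟨e⟩ := h
      exact ⟨by norm_num, inv_suz.congr e.symm⟩
    · rw [T.spor X (.fi22, 64561751654400) (by decide) h]
      obtain ⟨e⟩ := h
      exact ⟨by norm_num, inv_fi22.congr e.symm⟩
    · rw [T.spor X (.hn, 273030912000000) (by decide) h]
      obtain ⟨e⟩ := h
      exact ⟨by norm_num, inv_hn7.congr e.symm⟩
    · rw [T.spor X (.mcl, 898128000) (by decide) h]
      obtain ⟨e⟩ := h
      exact ⟨by norm_num, inv_mcl.congr e.symm⟩
  obtain ⟨h1, z, h2, h3⟩ := key
  exact RowsA.prime_cycle S (by omega) hp (by decide) (by omega) h1 h2 h3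

/-- `HN`, 11-cycles -/
theorem row_eleven (T : OrderTable.{u}) {X : Type u} [Group X] [Finite X] {n : ℕ} (S : AltCore.Sit X n)
    (hn : n = 11 ∨ n = 12) (h : Spor.IsoHN X) : False := by
  have h1 : ¬ 11 ^ 2 ∣ Nat.card X := by
    rw [T.spor X (.hn, 273030912000000) (by decide) h]
    norm_num
  obtain ⟨e⟩ := h
  obtain ⟨z, h2, h3⟩ := inv_hn11.congr e.symm
  exact RowsA.prime_cycle S (by omega) (by norm_num : Nat.Prime 11) (by decide) (by omega) h1 h2 h3

end Cfsg.Agent.H291.RowsB
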