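import Mathlib
import Cfsg.Agent.S2119
import Cfsg.Agent.H291.Parity

/-!
# An involutory automorphism centralizing an alternating group `A`, normal in its fixed points (helper291)

`Sit X n`: `t ∈ MulAut X`, `t² = 1`, `A ≃* A_n` is centralized by `t`, normal in `C_X(t)`, and no involution of `C_X(t)`
centralizes `A`.

* `exists_perm` : `y ∈ C_X(t)` acts on `A` as a permutation;
* `exists_invo` : if `|C_X(w)|` is even (`w ∈ A`), there is an involution `u ∈ C_X(t) ∩ C_X(w)` acting on `A` as a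
  permutation of order 2 commuting with `w`;
* `odd_cent` : if `C_{S_n}(w)` has odd order then `|C_X(w)|` is odd.
-/

set_option autoImplicit false

namespace Cfsg.Agent.H291.AltCore

open Subgroup Equiv

universe u

/-- `t ∈ MulAut X`, `t² = 1`, `A ≃* A_n` is centralized by `t` and normal in `C_X(t)`, and no involution of `C_X(t)`
centralizes `A` -/
structure Sit (X : Type u) [Group X] (n : ℕ) where
  t : MulAut X
  tt : t * t = 1
  A : Subgroup X
  fix : ∀ a ∈ A, t a = a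
  norm : ∀ y, t y = y → ∀ a ∈ A, y * a * y⁻¹ ∈ A
  e : ↥A ≃* ↥(alternatingGroup (Fin n))
  odd : ∀ u : X, orderOf u = 2 → t u = u → ∃ a ∈ A, u * a ≠ a * u

namespace Sit

variable {X : Type u} [Group X] {n : ℕ} (S : Sit X n)

/-- conjugation by `y ∈ C_X(t)` on `A` -/
noncomputable def cj {y : X} (hy : S.t y = y) : MulAut ↥S.A where
  toFun a := ⟨y * a * y⁻¹, S.norm y hy a a.2⟩
  invFun a := ⟨y⁻¹ * a * y, by
    have h := S.norm y⁻¹ (by rw [map_inv, hy]) a a.2
    rwa [inv_inv] at h⟩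
  left_inv a := Subtype.ext (by simp [mul_assoc])
  right_inv a := Subtype.ext (by simp [mul_assoc])
  map_mul' a b := Subtype.ext (by simp [mul_assoc])

theorem coe_cj {y : X} (hy : S.t y = y) (a : ↥S.A) : ((S.cj hy a : ↥S.A) : X) = y * a * y⁻¹ := rfl

/-- the elements of `C_X(t)` act on `A` as permutations -/
theorem exists_perm (hn : 7 ≤ n) {y : X} (hy : S.t y = y) :
    ∃ σ : Perm (Fin n), ∀ a : ↥S.A, (S.e (S.cj hy a) : Perm (Fin n)) = σ * S.e a * σ⁻¹ := by
  obtain ⟨σ, hσ⟩ := (Cfsg.Agent.S2119.result n (by omega) (by omega)).2 (MulAut.congr S.e (S.cj hy))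
  refine ⟨σ, fun a => ?_⟩
  have h := congrArg (fun f : MulAut ↥(alternatingGroup (Fin n)) => ((f (S.e a) : ↥(alternatingGroup (Fin n))) : Perm (Fin n))) hσ
  simp only [MulAut.congr_apply] at h
  have h2 : (MulAut.congr S.e (S.cj hy)) (S.e a) = S.e (S.cj hy a) := by
    simp [MulAut.congr]
  rw [← h2, ← hσ]
  rfl

/-- a permutation centralizing `A_n` is trivial -/
theorem perm_eq_one (hn : 7 ≤ n) {σ : Perm (Fin n)}
    (h : ∀ a : ↥(alternatingGroup (Fin n)), σ * (a : Perm (Fin n)) * σ⁻¹ = a) : σ = 1 := by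
  apply (Cfsg.Agent.S2119.result n (by omega) (by omega)).1
  rw [map_one]
  ext a : 2
  exact h a

theorem order_two (hn : 7 ≤ n) {u : X} (hu : orderOf u = 2) (htu : S.t u = u) {σ : Perm (Fin n)}
    (hσ : ∀ a : ↥S.A, (S.e (S.cj htu a) : Perm (Fin n)) = σ * S.e a * σ⁻¹) : orderOf σ = 2 := by
  have huu : u * u = 1 := by rw [← pow_two, ← hu, pow_orderOf_eq_one]
  refine orderOf_eq_prime ?_ ?_
  · apply perm_eq_one hn
    intro a
    obtain ⟨b, rfl⟩ := S.e.surjective a
    have h1 := hσ b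
    have h2 := hσ (S.cj htu b)
    have h3 : S.cj htu (S.cj htu b) = b := by
      apply Subtype.ext
      rw [coe_cj, coe_cj]
      calc u * (u * b * u⁻¹) * u⁻¹ = (u * u) * b * (u * u)⁻¹ := by group
        _ = b := by rw [huu]; group
    rw [h3, h1] at h2
    rw [pow_two]
    calc σ * σ * (S.e b : Perm (Fin n)) * (σ * σ)⁻¹ = σ * (σ * S.e b * σ⁻¹) * σ⁻¹ := by group
      _ = S.e b := h2.symm
  · rintro rfl
    obtain ⟨a, ha, hne⟩ := S.odd u hu htu
    apply hne
    have h1 := hσ ⟨a, ha⟩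
    rw [one_mul, inv_one, mul_one] at h1
    have h2 := congrArg Subtype.val (S.e.injective (Subtype.ext h1))
    rw [coe_cj] at h2
    exact mul_inv_eq_iff_eq_mul.1 h2

/-- a commuting involution of `C_X(t)` acts on `A` as an involution of `C_{S_n}(w)` -/
theorem exists_invo [Finite X] (hn : 7 ≤ n) (w : ↥S.A)
    (he : Even (Nat.card ↥(centralizer ({(w : X)} : Set X)))) :
    ∃ (u : X) (_ : orderOf u = 2) (htu : S.t u = u) (_ : u * (w : X) = w * u) (σ : Perm (Fin n)),
      orderOf σ = 2 ∧ (∀ a : ↥S.A, (S.e (S.cj htu a) : Perm (Fin n)) = σ * S.e a * σ⁻¹) ∧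
      σ * (S.e w : Perm (Fin n)) = S.e w * σ := by
  obtain ⟨u, hu, htu, huw⟩ := Parity.exists_comm_invo S.t S.tt (S.fix w w.2) he
  obtain ⟨σ, hσ⟩ := S.exists_perm hn htu
  refine ⟨u, hu, htu, huw, σ, S.order_two hn hu htu hσ, hσ, ?_⟩
  have h1 := hσ w
  have h2 : S.cj htu w = w := by
    apply Subtype.ext
    rw [coe_cj, huw, mul_assoc, mul_inv_cancel, mul_one]
  rw [h2] at h1
  exact (mul_inv_eq_iff_eq_mul.1 h1.symm)

/-- if `C_{S_n}(w)` has odd order then `|C_X(w)|` is odd -/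
theorem odd_cent [Finite X] (hn : 7 ≤ n) (w : ↥S.A)
    (ho : Odd (Nat.card ↥(centralizer ({(S.e w : Perm (Fin n))} : Set (Perm (Fin n)))))) :
    Odd (Nat.card ↥(centralizer ({(w : X)} : Set X))) := by
  rw [← Nat.not_even_iff_odd]
  intro he
  obtain ⟨u, -, -, -, σ, h1, -, h2⟩ := S.exists_invo hn w he
  have h3 : σ ∈ centralizer ({(S.e w : Perm (Fin n))} : Set (Perm (Fin n))) :=
    mem_centralizer_singleton_iff.2 h2
  have h4 : orderOf (⟨σ, h3⟩ : ↥(centralizer ({(S.e w : Perm (Fin n))} : Set (Perm (Fin n))))) ∣ _ :=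
    orderOf_dvd_natCard _
  rw [Subgroup.orderOf_mk, h1] at h4
  exact (Nat.not_even_iff_odd.2 ho) (even_iff_two_dvd.2 h4)

/-- elements of `A` with a given (even) cycle type -/
theorem exists_cycleType (m : Multiset ℕ) (hs : m.sum ≤ n) (h2 : ∀ a ∈ m, 2 ≤ a) (he : Even (m.sum + Multiset.card m)) :
    ∃ w : ↥S.A, (S.e w : Perm (Fin n)).cycleType = m := by
  obtain ⟨g, hg⟩ := (Equiv.Perm.exists_with_cycleType_iff (α := Fin n) (m := m)).2 ⟨by simpa using hs, h2⟩
  have hgA : g ∈ alternatingGroup (Fin n) := by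
    rw [Equiv.Perm.mem_alternatingGroup, Equiv.Perm.sign_of_cycleType, hg]
    exact Even.neg_one_pow he
  obtain ⟨w, hw⟩ := S.e.surjective ⟨g, hgA⟩
  exact ⟨w, by rw [hw]; exact hg⟩

theorem orderOf_coe (w : ↥S.A) : orderOf (w : X) = (S.e w : Perm (Fin n)).cycleType.lcm := by
  rw [Equiv.Perm.lcm_cycleType, Subgroup.orderOf_coe, Subgroup.orderOf_coe, MulEquiv.orderOf_eq]

end Sit

end Cfsg.Agent.H291.AltCore
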