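import Cfsg.Agent.H291.SCBaby
import Cfsg.Agent.H735.PairCross
import Cfsg.Agent.H713.Spor.B
import Cfsg.Agent.CpAut.TwoInnerB

/-!
# `PairRow` for the Baby Monster (helper291)
-/

set_option autoImplicit false

namespace Cfsg.Agent.H291.PairRowB

open Cfsg Subgroup Cfsg.Agent.H713 Cfsg.Agent.H730.Pair

theorem pairRow_baby (hK : Cfsg.Agent.H995.CopEngine.AllKnown.{0}) : PairRow Spor.BabyMonster := by
  have hfin := CTwoTab.BInst.finite_B
  have hs : IsSimpleGroup Spor.BabyMonster := Cfsg.Agent.S1704.result.1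
  have hc : Nat.card Spor.BabyMonster = 4154781481226426191177580544000000 := Cfsg.Agent.S1704.result.2
  have : Fact (Nat.Prime 47) := ⟨by norm_num⟩
  have hna : ∃ a b : Spor.BabyMonster, a * b ≠ b * a := by
    by_contra hcon
    push Not at hcon
    let : CommGroup Spor.BabyMonster := { (inferInstance : Group Spor.BabyMonster) with mul_comm := hcon }
    have hs' : IsSimpleGroup Spor.BabyMonster := hs
    have h1 : (Nat.card Spor.BabyMonster).Prime := IsSimpleGroup.prime_card
    rw [hc] at h1
    revert h1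
    norm_num
  obtain ⟨x, hx⟩ := exists_prime_orderOf_dvd_card' (G := Spor.BabyMonster) 47 (by rw [hc]; norm_num)
  refine Cfsg.Agent.H735.PairCross.pairRow_of_isolated hna Cfsg.Agent.CpAut.TwoInner.inner_b (ℓ := 47) (x := x)
    (k := 1) (m := 1) (by rw [hx, pow_one]) ?_ (HasDZ.vz Cfsg.Agent.H713.Spor.B.hasDZ_47 (by rw [hx]))
  rw [SCBaby.sc hK x hx, pow_one]

/-- **`PairRow` for the Baby Monster**, from the list of the simple groups. -/
theorem pairRow_of (hK : Cfsg.Agent.H995.CopEngine.AllKnown.{0}) {K : Type*} [Group K] (h : Spor.IsoB K) : PairRow K := by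
  obtain ⟨e⟩ := h
  exact (pairRow_baby hK).mulEquiv e.symm

end Cfsg.Agent.H291.PairRowB
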