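import Cfsg.Agent.H291.BabyTab
import Cfsg.Agent.H291.FiOut
import Cfsg.Agent.H287.FixInn
import Cfsg.Agent.H287.InnTwo
import Cfsg.Agent.OrdDiv.Main

/-!
# `PSL_m(2^k)`, `m ≥ 4`, as a component of `C_X(x)`, `X` sporadic (helper291)

`row` : `X` sporadic or the Tits group, `x` an involutory automorphism of `X`: no component `K` of `C_X(x)` satisfies
`K / Z(K) ≅ PSL_m(2^k)`, `m ≥ 4`, `(m, k) ≠ (4, 1)`.
-/

set_option autoImplicit false

open Subgroup Cfsg Cfsg.Agent.OrdDiv

namespace Cfsg.Agent.H291.PslRow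

open Cfsg.Agent.H287 Cfsg.Agent.NotCT

universe u v

/-- the pairs `(m, q)` -/
def bad (l : List (ℕ × ℕ)) (N : ℕ) : List (ℕ × ℕ) :=
  (cand l N fPSL).filter fun x => Nat.ble 4 x.1 && (x.2 % 2 == 0) && !(Nat.beq x.1 4 && Nat.beq x.2 2)

/-- the data -/
structure Par (m k : ℕ) (F : Type) [Field F] [Fintype F] : Prop where
  hm : 4 ≤ m
  hk : 1 ≤ k
  hmk : ¬ (m = 4 ∧ k = 1)
  hF : Fintype.card F = 2 ^ k

theorem mem_bad {l : List (ℕ × ℕ)} {N : ℕ} (hv : valid l N = true) {F : Type} [Field F] [Fintype F] {m k : ℕ}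
    (P : Par m k F) (hd : Nat.card (Matrix.ProjectiveSpecialLinearGroup (Fin m) F) ∣ N) :
    (m, Fintype.card F) ∈ bad l N ∧
      Nat.card (Matrix.ProjectiveSpecialLinearGroup (Fin m) F) = ordN (.psl m (Fintype.card F)) := by
  obtain ⟨h1, h2⟩ := psl_mem hv (by have := P.hm; omega) (by have := P.hm; omega) hd
  refine ⟨?_, h2⟩
  unfold bad
  rw [List.mem_filter]
  refine ⟨h1, ?_⟩
  have h3 : Nat.ble 4 m = true := Nat.ble_eq_true_of_le P.hm
  have h4 : (Fintype.card F % 2 == 0) = true := by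
    rw [P.hF, beq_iff_eq]
    exact Nat.mod_eq_zero_of_dvd (dvd_pow_self 2 (by have := P.hk; omega))
  have h5 : (Nat.beq m 4 && Nat.beq (Fintype.card F) 2) = false := by
    rw [← Bool.not_eq_true, Bool.and_eq_true, Nat.beq_eq, Nat.beq_eq]
    rintro ⟨h6, h7⟩
    apply P.hmk
    refine ⟨h6, ?_⟩
    rw [P.hF] at h7
    exact Nat.pow_right_injective le_rfl (by simpa using h7)
  simp only [h3, h4, h5]
  rfl

theorem none {l : List (ℕ × ℕ)} {N : ℕ} (hc : (valid l N && (bad l N).isEmpty) = true) {F : Type} [Field F] [Fintype F]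
    {m k : ℕ} (P : Par m k F) : ¬ Nat.card (Matrix.ProjectiveSpecialLinearGroup (Fin m) F) ∣ N := by
  rw [Bool.and_eq_true, List.isEmpty_iff] at hc
  intro hd
  have h := (mem_bad hc.1 P hd).1
  rw [hc.2] at h
  exact List.not_mem_nil h

/-- all the elements of `bad l N` satisfy `f` -/
theorem all {l : List (ℕ × ℕ)} {N : ℕ} (f : ℕ × ℕ → Bool) (hc : (valid l N && (bad l N).all f) = true)
    {F : Type} [Field F] [Fintype F]
    {m k : ℕ} (P : Par m k F) (hd : Nat.card (Matrix.ProjectiveSpecialLinearGroup (Fin m) F) ∣ N) :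
    f (m, Fintype.card F) = true := by
  rw [Bool.and_eq_true, List.all_eq_true] at hc
  exact hc.2 _ (mem_bad hc.1 P hd).1

/-! ### The rows -/

section rows

set_option linter.unusedSectionVars false

variable {X : Type u} [Group X] [Finite X] {x : MulAut X} {K : Subgroup ↥(fixedSubgroup x)}

/-- `|K / Z(K)|` divides `|X|` -/
theorem quot_dvd {S : Type v} [Group S] (e : ↥K ⧸ center ↥K ≃* S) : Nat.card S ∣ Nat.card X := by
  rw [← Nat.card_congr e.toEquiv]
  exact ((card_quotient_dvd_card _).trans (card_subgroup_dvd_card K)).trans (card_subgroup_dvd_card (fixedSubgroup x))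

theorem row_none {l : List (ℕ × ℕ)} {N : ℕ} (hc : (valid l N && (bad l N).isEmpty) = true) (hX : Nat.card X = N)
    {F : Type} [Field F] [Fintype F] {m k : ℕ} (P : Par m k F)
    (e : ↥K ⧸ center ↥K ≃* Matrix.ProjectiveSpecialLinearGroup (Fin m) F) : False :=
  none hc P (hX ▸ quot_dvd e)

/-- the order of `K / Z(K)` -/
theorem quot_card {S : ℕ → ℕ → Prop} (h : FixCard S X) (hx : orderOf x = 2) (hK : IsComponent K) {Y : Type v} [Group Y]
    (e : ↥K ⧸ center ↥K ≃* Y) : ∃ n, S n (Nat.card Y) := by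
  rw [← Nat.card_congr e.toEquiv]
  exact ⟨_, h x hx K hK⟩

/-- the orders -/
theorem orders {l : List (ℕ × ℕ)} {N : ℕ} {L : List ℕ}
    (hc : (valid l N && (bad l N).all fun y => L.contains (ordN (.psl y.1 y.2))) = true) (hX : Nat.card X = N)
    {F : Type} [Field F] [Fintype F] {m k : ℕ} (P : Par m k F)
    (e : ↥K ⧸ center ↥K ≃* Matrix.ProjectiveSpecialLinearGroup (Fin m) F) :
    Nat.card (Matrix.ProjectiveSpecialLinearGroup (Fin m) F) ∈ L := by
  have hd : Nat.card (Matrix.ProjectiveSpecialLinearGroup (Fin m) F) ∣ N := hX ▸ quot_dvd e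
  have hv : valid l N = true := (Bool.and_eq_true _ _ ▸ hc).1
  have h1 := all _ hc P hd
  rw [(mem_bad hv P hd).2]
  simpa using h1

theorem row_fi23 (hx : orderOf x = 2) (hK : IsComponent K) [IsSimpleGroup X] (h : Spor.IsoFi23 X)
    {F : Type} [Field F] [Fintype F] {m k : ℕ} (P : Par m k F)
    (e : ↥K ⧸ center ↥K ≃* Matrix.ProjectiveSpecialLinearGroup (Fin m) F) : False := by
  have h1 := orders (l := [(2, 18), (3, 13), (5, 2), (7, 1), (11, 1), (13, 1), (17, 1), (23, 1)])
    (N := 4089470473293004800) (L := [987033600]) (by decide +kernel) (Orders.fi23 h) P e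
  obtain ⟨n, h2⟩ := quot_card (fix_fi23 h) hx hK e
  rw [List.mem_singleton] at h1
  rw [h1] at h2
  omega

theorem row_fi24 (hx : orderOf x = 2) (hK : IsComponent K) [IsSimpleGroup X] (h : Spor.IsoFi24' X)
    {F : Type} [Field F] [Fintype F] {m k : ℕ} (P : Par m k F)
    (e : ↥K ⧸ center ↥K ≃* Matrix.ProjectiveSpecialLinearGroup (Fin m) F) : False := by
  have h1 := orders (l := [(2, 21), (3, 16), (5, 2), (7, 3), (11, 1), (13, 1), (17, 1), (23, 1), (29, 1)])
    (N := 1255205709190661721292800) (L := [987033600]) (by decide +kernel) (Orders.fi24 h) P e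
  rw [List.mem_singleton] at h1
  have hc : center X = ⊥ := CpAut.TwoInner.center_eq_bot_of_card inferInstance (by rw [Orders.fi24 h]; norm_num)
  have hF : FixCard (fun _ m => m ≠ 987033600) X := by
    refine FixCard.mk hc ((compCard_fi24 h).mono ?_) (fun x hx ho => ((FiOut.outCard h) x hx ho).mono ?_)
    · intro n m h
      omega
    · intro n m h
      unfold FiOut.SF at h
      omega
  obtain ⟨n, h2⟩ := quot_card hF hx hK e
  exact h2 h1

theorem row_m (hx : orderOf x = 2) (hK : IsComponent K) [IsSimpleGroup X] (h : Spor.IsoM X)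
    {F : Type} [Field F] [Fintype F] {m k : ℕ} (P : Par m k F)
    (e : ↥K ⧸ center ↥K ≃* Matrix.ProjectiveSpecialLinearGroup (Fin m) F) : False := by
  obtain ⟨n, -, h2⟩ := quot_card (fix_m h) hx hK e
  have h1 := orders (l := [(2, 46), (3, 20), (5, 9), (7, 6), (11, 2), (13, 3), (17, 1), (19, 1), (23, 1), (29, 1), (31, 1),
      (41, 1), (47, 1), (59, 1), (71, 1)])
    (N := 808017424794512875886459904961710757005754368000000000)
    (L := [(5, 2), (6, 2), (4, 4), (5, 4), (6, 4)].map fun y => ordN (.psl y.1 y.2)) (by decide +kernel) (Orders.m h) P e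
  rw [h2] at h1
  revert h1
  decide +kernel

theorem row_b (hx : orderOf x = 2) (hK : IsComponent K) (h : Spor.IsoB X)
    {F : Type} [Field F] [Fintype F] {m k : ℕ} (P : Par m k F)
    (e : ↥K ⧸ center ↥K ≃* Matrix.ProjectiveSpecialLinearGroup (Fin m) F) : False := by
  obtain ⟨K4, _, _, hK4⟩ := BabyTab.exists_field
  have h1 := BabyTab.fix h K4 hK4 x hx K hK
  have : Finite (Lie.twistedE6 K4 2) := Nat.finite_of_card_ne_zero (by rw [BabyTab.card_E K4 hK4]; norm_num)
  have hE : center (Lie.twistedE6 K4 2) = ⊥ := CpAut.TwoInner.center_eq_bot_of_card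
    (MonsterN.EInst.isSimple K4 hK4) (by rw [BabyTab.card_E K4 hK4]; norm_num)
  have h2 := h1.cases hE e
  rw [BabyTab.card_E K4 hK4] at h2
  have hv : valid [(2, 36), (3, 9), (5, 2), (7, 2), (11, 1), (13, 1), (17, 1), (19, 1)] 76532479683774853939200 = true := by
    decide +kernel
  have hd : Nat.card (Matrix.ProjectiveSpecialLinearGroup (Fin m) F) ∣ 76532479683774853939200 := by
    rcases h2 with h2 | h2
    · rw [h2]
    · exact h2.1
  have h3 := (mem_bad hv P hd).1
  have h4 : bad [(2, 36), (3, 9), (5, 2), (7, 2), (11, 1), (13, 1), (17, 1), (19, 1)] 76532479683774853939200 =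
      [(4, 4)] := by decide +kernel
  rw [h4, List.mem_singleton, Prod.mk.injEq] at h3
  obtain ⟨rfl, hF⟩ := h3
  have h5 := (mem_bad hv P hd).2
  rw [hF] at h5
  have h6 : ordN (.psl 4 4) = 987033600 := by decide +kernel
  rcases h2 with h2 | ⟨-, h2⟩
  · rw [h2, h6] at h5
    norm_num at h5
  · have h7 := BabyComp.NoSpec.card_aut_psl_le F (p := 2) (f := 2) Nat.prime_two one_le_two le_rfl
      (by rw [hF]; norm_num) 4 (by norm_num) (fun h => absurd h (by norm_num))
    rw [hF] at h7
    have h8 := h2.trans (Nat.mul_le_mul_left _ h7)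
    norm_num at h8

theorem row_no (hx : orderOf x = 2) (hK : IsComponent K) (h : FixCard NoC X) : False := h x hx K hK

/-- **`PSL_m(2^k)` is not a component in a sporadic group or the Tits group.** -/
theorem row [IsSimpleGroup X] (h : IsSporadicGroup X ∨ Lie.IsoTits X) (hx : orderOf x = 2) (hK : IsComponent K)
    {F : Type} [Field F] [Fintype F] {m k : ℕ} (P : Par m k F)
    (e : ↥K ⧸ center ↥K ≃* Matrix.ProjectiveSpecialLinearGroup (Fin m) F) : False := by
  rcases h with h | h
  · rcases h with h | h | h | h | h | h | h | h | h | h | h | h | h | h | h | h | h | h | h | h | h | h | h | h | h | h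
    · exact row_none (l := [(2, 4), (3, 2), (5, 1), (11, 1)]) (by decide +kernel) (Orders.m11 h) P e
    · exact row_none (l := [(2, 6), (3, 3), (5, 1), (11, 1)]) (by decide +kernel) (Orders.m12 h) P e
    · exact row_none (l := [(2, 7), (3, 2), (5, 1), (7, 1), (11, 1)]) (by decide +kernel) (Orders.m22 h) P e
    · exact row_none (l := [(2, 7), (3, 2), (5, 1), (7, 1), (11, 1), (23, 1)]) (by decide +kernel) (Orders.m23 h) P e
    · exact row_none (l := [(2, 10), (3, 3), (5, 1), (7, 1), (11, 1), (23, 1)]) (by decide +kernel) (Orders.m24 h) P e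
    · exact row_none (l := [(2, 3), (3, 1), (5, 1), (7, 1), (11, 1), (19, 1)]) (by decide +kernel) (Orders.j1 h) P e
    · exact row_none (l := [(2, 7), (3, 3), (5, 2), (7, 1)]) (by decide +kernel) (Orders.j2 h) P e
    · exact row_none (l := [(2, 7), (3, 5), (5, 1), (17, 1), (19, 1)]) (by decide +kernel) (Orders.j3 h) P e
    · exact row_no hx hK (fix_j4 h)
    · exact row_none (l := [(2, 21), (3, 9), (5, 4), (7, 2), (11, 1), (13, 1), (23, 1)]) (by decide +kernel)
        (Orders.co1 h) P e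
    · exact row_none (l := [(2, 18), (3, 6), (5, 3), (7, 1), (11, 1), (23, 1)]) (by decide +kernel) (Orders.co2 h) P e
    · exact row_none (l := [(2, 10), (3, 7), (5, 3), (7, 1), (11, 1), (23, 1)]) (by decide +kernel) (Orders.co3 h) P e
    · exact row_none (l := [(2, 7), (3, 6), (5, 3), (7, 1), (11, 1)]) (by decide +kernel) (Orders.mcl h) P e
    · exact row_none (l := [(2, 9), (3, 2), (5, 3), (7, 1), (11, 1)]) (by decide +kernel) (Orders.hs h) P e
    · exact row_none (l := [(2, 13), (3, 7), (5, 2), (7, 1), (11, 1), (13, 1)]) (by decide +kernel) (Orders.suz h) P e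
    · exact row_none (l := [(2, 10), (3, 3), (5, 2), (7, 3), (17, 1)]) (by decide +kernel) (Orders.he h) P e
    · exact row_none (l := [(2, 14), (3, 3), (5, 3), (7, 1), (13, 1), (29, 1)]) (by decide +kernel) (Orders.ru h) P e
    · exact row_none (l := [(2, 9), (3, 4), (5, 1), (7, 3), (11, 1), (19, 1), (31, 1)]) (by decide +kernel)
        (Orders.on h) P e
    · exact row_none (l := [(2, 8), (3, 7), (5, 6), (7, 1), (11, 1), (31, 1), (37, 1), (67, 1)]) (by decide +kernel)
        (Orders.ly h) P e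
    · exact row_none (l := [(2, 17), (3, 9), (5, 2), (7, 1), (11, 1), (13, 1)]) (by decide +kernel) (Orders.fi22 h) P e
    · exact row_fi23 hx hK h P e
    · exact row_fi24 hx hK h P e
    · exact row_none (l := [(2, 14), (3, 6), (5, 6), (7, 1), (11, 1), (19, 1)]) (by decide +kernel) (Orders.hn h) P e
    · exact row_no hx hK (fix_th h)
    · exact row_b hx hK h P e
    · exact row_m hx hK h P e
  · exact row_none (l := [(2, 11), (3, 3), (5, 2), (13, 1)]) (by decide +kernel) (Orders.tits h) P e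

end rows

end Cfsg.Agent.H291.PslRow
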