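import Cfsg.Agent.H291.LieTwo
import Cfsg.Agent.H291.PslRow
import Cfsg.Agent.H298.EO
import Cfsg.Agent.H284.AltComp
import Cfsg.Agent.H284.FStd
import Cfsg.Agent.OddHalf.Known
import Cfsg.Agent.LieClassical.FieldTransfer
import Cfsg.Agent.GH.AltOut

/-!
# Standard subgroups `L` with `L / O(L) ≅ PSL_m(2^n)`, `m ≥ 3` (helper291)

* `row` : `K` a known simple group, `A` a normal component of `C_K(x)`, `x` involutory, `A / Z(A) ≅ PSL_m(2^n)`, `m ≥ 4`:
  `K ≅ PSL_m(4^n)`;
* `main` : the statement of S3127, with the classification of the finite simple groups and the case `m = 3` as hypotheses.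
-/

set_option autoImplicit false
set_option linter.unusedSectionVars false

namespace Cfsg.Agent.H291.PslStd

open Subgroup Cfsg Cfsg.Agent.OrdDiv Cfsg.Agent.H902 Cfsg.Agent.H902.Names Cfsg.Agent.H291.LieTwo
open Cfsg.Agent.SignalizersComponents.Components

universe u v

/-- the conclusion -/
def Concl (K : Type u) [Group K] (m n : ℕ) : Prop :=
  ∃ (K' : Type) (_ : Field K') (_ : Fintype K'), Fintype.card K' = 4 ^ n ∧
    Nonempty (K ≃* Matrix.ProjectiveSpecialLinearGroup (Fin m) K')

theorem center_bot {A : Type*} [Group A] [IsSimpleGroup A] (hna : ¬ IsMulCommutative A) : center A = ⊥ := by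
  rcases (inferInstance : (center A).Normal).eq_bot_or_eq_top with h | h
  · exact h
  · exfalso
    refine hna ⟨⟨fun a b => ?_⟩⟩
    have h1 : a ∈ center A := by rw [h]; exact mem_top a
    exact ((mem_center_iff.1 h1) b).symm

/-- `Z(L) = O(L)` -/
theorem center_eq {L : Type*} [Group L] [Finite L] (hL : IsQuasisimple L) {Q : Type*} [Group Q] [IsSimpleGroup Q]
    (hna : ¬ IsMulCommutative Q) (e : L ⧸ oddCore L ≃* Q) : center L = oddCore L := by
  have hn : (oddCore L).Normal := Lib.Cores.pPrimeCore_normal 2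
  apply le_antisymm
  · intro z hz
    have h1 : (QuotientGroup.mk z : L ⧸ oddCore L) ∈ center (L ⧸ oddCore L) := by
      rw [mem_center_iff]
      intro g
      obtain ⟨g, rfl⟩ := QuotientGroup.mk_surjective g
      rw [← QuotientGroup.mk_mul, ← QuotientGroup.mk_mul, mem_center_iff.1 hz g]
    have hs : IsSimpleGroup (L ⧸ oddCore L) := e.isSimpleGroup
    have hna' : ¬ IsMulCommutative (L ⧸ oddCore L) := by
      intro h
      refine hna ⟨⟨fun a b => ?_⟩⟩
      apply e.symm.injective
      rw [map_mul, map_mul]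
      exact h.is_comm.comm _ _
    rw [center_bot hna', mem_bot, QuotientGroup.eq_one_iff] at h1
    exact h1
  · rcases quasisimple_normal hL (oddCore L) hn with h | h
    · exfalso
      have hs : IsSimpleGroup (L ⧸ oddCore L) := e.isSimpleGroup
      have : Subsingleton (L ⧸ oddCore L) := by
        rw [h]
        exact QuotientGroup.subsingleton_quotient_top
      exact not_nontrivial _ hs.toNontrivial
    · exact h

/-- **The rows for `m ≥ 4`.** -/
theorem row (T : OrderTable.{u}) {K : Type u} [Group K] [Finite K] [IsSimpleGroup K] (hna : ¬ IsMulCommutative K)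
    (hk : IsKnownSimple' K) {x : MulAut K} (hx : x * x = 1) (hx1 : x ≠ 1) {A : Subgroup ↥(fixedSubgroup x)} [A.Normal]
    (hA : IsComponent A) (hZ : Odd (Nat.card (center ↥A))) {m n : ℕ} (hm : 4 ≤ m) (hn : 1 ≤ n) (hmn : m = 4 → 2 ≤ n)
    {F : Type} [Field F] [Fintype F] (hF : Fintype.card F = 2 ^ n)
    (e : ↥A ⧸ center ↥A ≃* Matrix.ProjectiveSpecialLinearGroup (Fin m) F) : Concl K m n := by
  have hc2 : CharP F 2 := char_two hF
  rcases OddHalf.Known.classify hna hk with ⟨k, hk5, ⟨f⟩⟩ | ⟨p, hp, hp2, h⟩ | (h | h) | h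
  · exfalso
    obtain ⟨j, i, hj, -, -, ⟨g⟩, -⟩ := H284.AltComp.table hk5 f hx hx1 hA
    have hs : IsSimpleGroup ↥A := by
      have : IsSimpleGroup ↥(alternatingGroup (Fin j)) := alternatingGroup.isSimpleGroup (by rw [Nat.card_fin]; omega)
      exact g.isSimpleGroup
    have hz : center ↥A = ⊥ := center_bot (quasisimple_not_isMulCommutative hA.2)
    have e' : ↥A ≃* Matrix.ProjectiveSpecialLinearGroup (Fin m) F :=
      ((QuotientGroup.quotientMulEquivOfEq hz).trans QuotientGroup.quotientBot).symm.trans e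
    have hr : Art.Real (.L m) 2 n (Nat.card ↥A) := by
      rw [Nat.card_congr e'.toEquiv]
      exact psl_real Nat.prime_two hn hF (by omega) (fun h => by omega)
    have hc : 2 * Nat.card ↥A = j.factorial := (alt_card hj g).symm
    have hE : Exc (Nat.card ↥A) := by
      rcases Art.alt_lie hr hj hc with h | h | h
      · exact Or.inl h
      · exact Or.inr (Or.inr (Or.inl h))
      · exact Or.inr (Or.inr (Or.inr (Or.inl h)))
    rcases exc_psl (by omega) hr hE with h | ⟨-, h | h⟩ <;> omega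
  · exact (H298.EO.odd_row hp hp2 h x hx A hA.2 hZ (Or.inl ⟨F, inferInstance, inferInstance, hc2, m, hm, ⟨e⟩⟩)).elim
  · exact psl T hna h hx hx1 hA (by omega) hn (fun h => hmn (by omega)) hF e
  · exact (PslRow.row (Or.inr h) (orderOf_eq_prime (by rw [pow_two, hx]) hx1) hA
      ⟨hm, hn, fun h => by have := hmn h.1; omega, hF⟩ e).elim
  · exact (PslRow.row (Or.inl h) (orderOf_eq_prime (by rw [pow_two, hx]) hx1) hA
      ⟨hm, hn, fun h => by have := hmn h.1; omega, hF⟩ e).elim

theorem chk_tits : ((List.range 12).all fun v => (Art.ents 2 v).all fun a => match a.1 with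
    | .L k => decide (k ≤ 2) || decide (17971200 % Art.val 2 a ≠ 0)
    | _ => true) = true := by
  decide +kernel

/-- **The Tits group has no component `PSL_m(2^n)`, `m ≥ 3`.** -/
theorem no_tits (T : OrderTable.{u}) {K : Type u} [Group K] [Finite K] (h : Lie.IsoTits K) {x : MulAut K}
    {A : Subgroup ↥(fixedSubgroup x)} {m n : ℕ} (hm : 3 ≤ m) (hn : 1 ≤ n) {F : Type} [Field F] [Fintype F]
    (hF : Fintype.card F = 2 ^ n)
    (e : ↥A ⧸ center ↥A ≃* Matrix.ProjectiveSpecialLinearGroup (Fin m) F) : False := by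
  have hc : Nat.card K = 17971200 := T.spor K (.tits, 17971200) (by decide) h
  have hr : Art.Real (.L m) 2 n (Nat.card (↥A ⧸ center ↥A)) := by
    rw [Nat.card_congr e.toEquiv]
    exact psl_real Nat.prime_two hn hF (by omega) (fun h => by omega)
  have hd : Nat.card (↥A ⧸ center ↥A) ∣ 17971200 := by
    rw [← hc]
    exact (Subgroup.card_quotient_dvd_card _).trans
      ((Subgroup.card_subgroup_dvd_card A).trans (Subgroup.card_subgroup_dvd_card _))
  obtain ⟨M, hM⟩ : ∃ M, M = Nat.card (↥A ⧸ center ↥A) := ⟨_, rfl⟩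
  rw [← hM] at hr hd
  obtain ⟨v, hv⟩ : ∃ v, v = n * Art.NN (.L m) := ⟨_, rfl⟩
  have hv12 : v < 12 := by
    by_contra hcon
    have h1 : 2 ^ 12 ∣ M := by
      have h2 := hr.P_self
      rw [← pow_mul, ← hv] at h2
      have h3 : Art.P 2 M ∣ M := Nat.ordProj_dvd M 2
      rw [h2] at h3
      exact (pow_dvd_pow 2 (by omega)).trans h3
    exact absurd (h1.trans hd) (by decide)
  have h1 := Art.mem_ents hr hv.symm
  have h2 := List.all_eq_true.1 (List.all_eq_true.1 chk_tits v (List.mem_range.2 hv12)) _ h1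
  have h3 := Art.val_eq hr
  simp only [h3, ne_eq, Bool.or_eq_true, decide_eq_true_eq] at h2
  rcases h2 with h2 | h2
  · omega
  · exact h2 (Nat.mod_eq_zero_of_dvd hd)

section

variable {G : Type u} [Group G] [Finite G] (hs : IsSimpleGroup ↥(generalizedFittingSubgroup G))
  (hna : ¬ IsMulCommutative ↥(generalizedFittingSubgroup G))

include hs hna

theorem layer_eq : layer G = generalizedFittingSubgroup G := by
  refine le_antisymm ?_ ?_
  · rw [Lib.GenFitting.genFitting_def]
    exact le_sup_left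
  · refine le_sSup ?_
    have hFn : (generalizedFittingSubgroup G).Normal := Lib.GenFitting.genFitting_normal
    exact ⟨hFn.isSubnormal, GH.AltOut.quasisimple hna⟩

theorem not_normal {A : Subgroup G} (hA : IsStandardSubgroup A) : ¬ A.Normal := by
  intro hn
  obtain ⟨hAX, hC, t, htA, ht⟩ := H284.FStd.fstd hs hna hA
  have h1 : A ≠ ⊥ := SignalizersComponents.StandardTrichotomy.ne_bot hA
  have h2 := Cit.PieceEnd.fstar_le_of_normal hs hna h1
  have h3 : t ∈ centralizer (generalizedFittingSubgroup G : Set G) := by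
    rw [mem_centralizer_iff]
    intro y hy
    exact mem_centralizer_iff.1 htA y (h2 hy)
  rw [hC, mem_bot] at h3
  rw [h3, orderOf_one] at ht
  omega

theorem not_prod {A : Subgroup G} (hA : IsStandardSubgroup A) : ¬ Nonempty (↥(layer G) ≃* ↥A × ↥A) := by
  rintro ⟨e⟩
  rw [layer_eq hs hna] at e
  have h1 : IsSimpleGroup (↥A × ↥A) := e.symm.isSimpleGroup
  have h2 : (MonoidHom.fst ↥A ↥A).ker.Normal := inferInstance
  have hnt : Nontrivial ↥A := quasisimple_nontrivial hA.1
  obtain ⟨a, ha⟩ := exists_ne (1 : ↥A)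
  rcases h2.eq_bot_or_eq_top with h3 | h3
  · have h4 : ((1, a) : ↥A × ↥A) ∈ (MonoidHom.fst ↥A ↥A).ker := rfl
    rw [h3, mem_bot] at h4
    exact ha (congrArg Prod.snd h4)
  · have h4 : ((a, 1) : ↥A × ↥A) ∈ (MonoidHom.fst ↥A ↥A).ker := by rw [h3]; exact mem_top _
    exact ha h4

end

/-- **The statement S3127**, with the classification of the finite simple groups and the case `m = 3` as hypotheses. -/
theorem main {G : Type u} [Group G] [Finite G] (T : OrderTable.{u})
    (hF : IsSimpleGroup ↥(generalizedFittingSubgroup G)) (hF' : ¬ IsMulCommutative ↥(generalizedFittingSubgroup G))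
    (hk : IsKnownSimple' ↥(generalizedFittingSubgroup G)) {L : Subgroup G} (hL : IsStandardSubgroup L)
    {m n : ℕ} (hm : 3 ≤ m) (hn : 1 ≤ n) (hmn : m ≤ 4 → 2 ≤ n) {F : Type v} [Field F] [Fintype F]
    (hFq : Fintype.card F = 2 ^ n)
    (hLX : Nonempty ((↥L ⧸ oddCore ↥L) ≃* Matrix.ProjectiveSpecialLinearGroup (Fin m) F))
    (H3 : ∀ t : G, oddCore G = ⊥ → ¬ L.Normal → Odd (Nat.card ↥(center ↥L)) → orderOf t = 2 →
      t ∈ centralizer (L : Set G) → (∃ (F : Type) (_ : Field F) (_ : Fintype F) (a : ℕ), 2 ≤ a ∧ Fintype.card F = 2 ^ a ∧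
        (Nonempty (↥L ⧸ center ↥L ≃* Matrix.ProjectiveSpecialLinearGroup (Fin 3) F))) →
      Nonempty (↥(layer G) ≃* ↥L × ↥L) ∨ (IsLieTypeChar 2 ↥(layer G) ∨ Lie.IsoTits ↥(layer G))) :
    Concl ↥(generalizedFittingSubgroup G) m n := by
  have hFn : (generalizedFittingSubgroup G).Normal := Lib.GenFitting.genFitting_normal
  obtain ⟨hLF, hc, t, htL, ht⟩ := H284.FStd.fstd hF hF' hL
  obtain ⟨h1, h2, h3⟩ := H284.FStd.comp_fix hc hL hLF ht htL
  have h4 : (H284.FStd.BB (generalizedFittingSubgroup G) L t).Normal := H298.EO.BB_normal hL ht htL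
  let f : ↥(H284.FStd.BB (generalizedFittingSubgroup G) L t) ≃* ↥L := H284.FStd.BBequiv hLF htL
  -- the field
  let _ : Fintype (GaloisField 2 n) := Fintype.ofFinite _
  have hF2 : Fintype.card (GaloisField 2 n) = 2 ^ n := by
    rw [← Nat.card_eq_fintype_card, GaloisField.card 2 n (by omega)]
  obtain ⟨e0⟩ := hLX
  have e1 : (↥L ⧸ oddCore ↥L) ≃* Matrix.ProjectiveSpecialLinearGroup (Fin m) (GaloisField 2 n) :=
    e0.trans (LieClassical.FieldTransfer.pslCongr (FiniteField.ringEquivOfCardEq (hFq.trans hF2.symm)))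
  have hs : IsSimpleGroup (Matrix.ProjectiveSpecialLinearGroup (Fin m) (GaloisField 2 n)) := S0249.result m hm
  have hsL : IsSimpleGroup (↥L ⧸ oddCore ↥L) := e1.isSimpleGroup
  have hnaQ : ¬ IsMulCommutative (↥L ⧸ oddCore ↥L) := by
    intro h
    have hn' : (oddCore ↥L).Normal := Lib.Cores.pPrimeCore_normal 2
    have h5 : commutator ↥L ≤ oddCore ↥L :=
      (Subgroup.Normal.quotient_commutative_iff_commutator_le (N := oddCore ↥L)).1 h
    rw [hL.1.1.commutator_eq_top, top_le_iff] at h5
    have : Subsingleton (↥L ⧸ oddCore ↥L) := by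
      rw [h5]
      exact QuotientGroup.subsingleton_quotient_top
    exact not_nontrivial _ hsL.toNontrivial
  have hz : center ↥L = oddCore ↥L := center_eq hL.1 hnaQ (MulEquiv.refl _)
  have e2 : ↥L ⧸ center ↥L ≃* Matrix.ProjectiveSpecialLinearGroup (Fin m) (GaloisField 2 n) :=
    (QuotientGroup.quotientMulEquivOfEq hz).trans e1
  have hodd : Odd (Nat.card ↥(center ↥L)) := by
    rw [hz]
    exact Nat.coprime_two_right.1 (Lib.Cores.pPrimeCore_coprime 2)
  have hZ : Odd (Nat.card ↥(center ↥(H284.FStd.BB (generalizedFittingSubgroup G) L t))) := by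
    rw [Nat.card_congr (Subgroup.centerCongr f).toEquiv]
    exact hodd
  obtain ⟨e3⟩ := H283.OddComp.exists_quoEquiv f
  have e4 := e3.trans e2
  rcases Nat.lt_or_ge m 4 with h5 | h5
  · obtain rfl : m = 3 := by omega
    have h7 := H3 t (H284.FStd.core_eq_bot hF hF') (not_normal hF hF' hL) hodd ht htL
      ⟨GaloisField 2 n, inferInstance, inferInstance, n, hmn (by omega), hF2, ⟨e2⟩⟩
    rw [layer_eq hF hF'] at h7
    rcases h7 with h6 | h6 | h6
    · refine (not_prod hF hF' hL ?_).elim
      rw [layer_eq hF hF']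
      exact h6
    · exact psl T hF' h6 h1 h2 h3 (by omega) hn hmn hF2 e4
    · exact (no_tits T h6 (by omega) hn hF2 e4).elim
  · exact row T hF' hk h1 h2 h3 hZ h5 hn (fun h => hmn (by omega)) hF2 e4

end Cfsg.Agent.H291.PslStd
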