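import Cfsg.Agent.H291.QARows
import Cfsg.Agent.S2034
import Cfsg.Agent.S2037
import Cfsg.Agent.S2038
import Cfsg.Agent.S2039
import Cfsg.Agent.S2042
import Cfsg.Agent.S2044
import Cfsg.Agent.S2045
import Cfsg.Agent.S2049
import Cfsg.Agent.S2050
import Cfsg.Agent.S2054
import Cfsg.Agent.S2056
import Cfsg.Agent.S2057
import Cfsg.Agent.S2059

/-!
# S4979, layer (A), the sporadic groups with trivial multiplier
-/

set_option autoImplicit false

open Cfsg

namespace Cfsg.Agent.H291.QA

open Cfsg.Agent.H80.Fpf Cfsg.Agent.H152.QA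

variable {S : Type} [Group S] [Finite S] [IsSimpleGroup S]

theorem row_m11 (h : Spor.IsoM11 S) : NoSit S := h.elim fun e => noSit_of_cyc_iso e Cfsg.Agent.S2034.result
theorem row_m23 (h : Spor.IsoM23 S) : NoSit S := h.elim fun e => noSit_of_cyc_iso e Cfsg.Agent.S2037.result
theorem row_m24 (h : Spor.IsoM24 S) : NoSit S := h.elim fun e => noSit_of_cyc_iso e Cfsg.Agent.S2038.result
theorem row_j1 (h : Spor.IsoJ1 S) : NoSit S := h.elim fun e => noSit_of_cyc_iso e Cfsg.Agent.S2039.result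
theorem row_j4 (h : Spor.IsoJ4 S) : NoSit S := h.elim fun e => noSit_of_cyc_iso e Cfsg.Agent.S2042.result
theorem row_co2 (h : Spor.IsoCo2 S) : NoSit S := h.elim fun e => noSit_of_cyc_iso e Cfsg.Agent.S2044.result
theorem row_co3 (h : Spor.IsoCo3 S) : NoSit S := h.elim fun e => noSit_of_cyc_iso e Cfsg.Agent.S2045.result
theorem row_he (h : Spor.IsoHe S) : NoSit S := h.elim fun e => noSit_of_cyc_iso e Cfsg.Agent.S2049.result
theorem row_ly (h : Spor.IsoLy S) : NoSit S := h.elim fun e => noSit_of_cyc_iso e Cfsg.Agent.S2050.result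
theorem row_fi23 (h : Spor.IsoFi23 S) : NoSit S := h.elim fun e => noSit_of_cyc_iso e Cfsg.Agent.S2054.result
theorem row_hn (h : Spor.IsoHN S) : NoSit S := h.elim fun e => noSit_of_cyc_iso e Cfsg.Agent.S2056.result
theorem row_th (h : Spor.IsoTh S) : NoSit S := h.elim fun e => noSit_of_cyc_iso e Cfsg.Agent.S2057.result
theorem row_m (h : Spor.IsoM S) : NoSit S := h.elim fun e => noSit_of_cyc_iso e Cfsg.Agent.S2059.result

end Cfsg.Agent.H291.QA
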