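import Cfsg.Agent.H291.AltCore

/-!
# Cycles of prime length `r ∈ {n - 1, n}` (helper291)

`prime_cycle` : in the situation `Sit X n`, `n = r` or `n = r + 1`, `r` an odd prime with `r² ∤ |X|`, no involution of
`X` commutes with an element of order `r`.
`prime_cycle_two` : two disjoint cycles of different odd lengths.
-/

set_option autoImplicit false

namespace Cfsg.Agent.H291.RowsA

open Subgroup Equiv Cfsg.Agent.H291

universe u

variable {X : Type u} [Group X] [Finite X] {n : ℕ}

theorem card_cent_cycle {g : Perm (Fin n)} {r : ℕ} (h : g.cycleType = {r}) (hrn : n = r ∨ n = r + 1) :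
    Nat.card ↥(centralizer ({g} : Set (Perm (Fin n)))) = r := by
  rw [Equiv.Perm.nat_card_centralizer, h]
  have : (n - r).factorial = 1 := by
    rcases hrn with rfl | rfl
    · simp
    · simp
  simp [this]

omit [Finite X] in
theorem exists_cycle (S : AltCore.Sit X n) {r : ℕ} (hr : r.Prime) (ho : Odd r) (hrn : r ≤ n) :
    ∃ w : ↥S.A, (S.e w : Perm (Fin n)).cycleType = {r} ∧ orderOf (w : X) = r := by
  obtain ⟨w, hw⟩ := S.exists_cycleType {r} (by simpa using hrn) (by simpa using hr.two_le) (by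
    simpa using ho.add_one)
  exact ⟨w, hw, by rw [S.orderOf_coe, hw]; simp⟩

/-- cycles of prime length -/
theorem prime_cycle (S : AltCore.Sit X n) (hn : 7 ≤ n) {r : ℕ} (hr : r.Prime) (ho : Odd r) (hrn : n = r ∨ n = r + 1)
    (h2 : ¬ r ^ 2 ∣ Nat.card X) {u : X} (hu : orderOf u = 2) (hd : r ∣ Nat.card ↥(centralizer ({u} : Set X))) :
    False := by
  obtain ⟨w, hw, hw2⟩ := exists_cycle S hr ho (by omega)
  have h1 := Parity.even_cent_of_small hr h2 hu hd hw2
  have h3 := S.odd_cent hn w (by rw [card_cent_cycle hw hrn]; exact ho)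
  exact (Nat.not_even_iff_odd.2 h3) h1

/-- the centralizer of `w` in `A_n` embeds in `C_X(w)` -/
theorem card_dvd (S : AltCore.Sit X n) (hn : 7 ≤ n) (w : ↥S.A) {k : ℕ}
    (h : 2 * k ∣ Nat.card ↥(centralizer ({(S.e w : Perm (Fin n))} : Set (Perm (Fin n))))) :
    k ∣ Nat.card ↥(centralizer ({(w : X)} : Set X)) := by
  set C := centralizer ({(S.e w : Perm (Fin n))} : Set (Perm (Fin n))) with hC
  have : Nontrivial (Fin n) := ⟨⟨⟨0, by omega⟩, ⟨1, by omega⟩, by simp⟩⟩
  have h1 : (alternatingGroup (Fin n)).relIndex C ∣ 2 := by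
    rw [← alternatingGroup.index_eq_two (α := Fin n)]
    exact relIndex_dvd_index_of_normal _ _
  have h2 : Nat.card ↥((alternatingGroup (Fin n)).subgroupOf C) * (alternatingGroup (Fin n)).relIndex C = Nat.card ↥C :=
    card_mul_index _
  have h3 : k ∣ Nat.card ↥((alternatingGroup (Fin n)).subgroupOf C) := by
    rcases (Nat.dvd_prime Nat.prime_two).1 h1 with h4 | h4
    · rw [h4, mul_one] at h2
      rw [h2]
      exact (Dvd.intro_left 2 rfl).trans h
    · rw [h4] at h2
      rw [← h2, mul_comm] at h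
      exact Nat.dvd_of_mul_dvd_mul_right (by norm_num) h
  refine h3.trans ?_
  let f : ↥((alternatingGroup (Fin n)).subgroupOf C) →* ↥(centralizer ({(w : X)} : Set X)) :=
    { toFun := fun x => ⟨((S.e.symm ⟨((x : ↥C) : Perm (Fin n)), mem_subgroupOf.1 x.2⟩ : ↥S.A) : X), by
        rw [mem_centralizer_singleton_iff]
        have h5 := mem_centralizer_singleton_iff.1 (x : ↥C).2
        have h6 : (⟨((x : ↥C) : Perm (Fin n)), mem_subgroupOf.1 x.2⟩ : ↥(alternatingGroup (Fin n))) * S.e w =
          S.e w * ⟨((x : ↥C) : Perm (Fin n)), mem_subgroupOf.1 x.2⟩ := Subtype.ext h5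
        have h7 := congrArg S.e.symm h6
        rw [map_mul, map_mul, MulEquiv.symm_apply_apply] at h7
        exact congrArg Subtype.val h7⟩
      map_one' := by
        apply Subtype.ext
        change ((S.e.symm 1 : ↥S.A) : X) = 1
        rw [map_one]; rfl
      map_mul' := fun x y => by
        apply Subtype.ext
        change ((S.e.symm (⟨((x : ↥C) : Perm (Fin n)), mem_subgroupOf.1 x.2⟩ *
          ⟨((y : ↥C) : Perm (Fin n)), mem_subgroupOf.1 y.2⟩) : ↥S.A) : X) = _
        rw [map_mul]; rfl }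
  apply card_dvd_of_injective f
  intro x y hxy
  have h5 := congrArg Subtype.val hxy
  have h6 := S.e.symm.injective (Subtype.ext h5)
  exact Subtype.ext (Subtype.ext (Subtype.mk.inj h6))

/-- `4` divides the order of the centralizer of a 5-cycle, `n ≥ 9` -/
theorem four_dvd (S : AltCore.Sit X n) (hn : 9 ≤ n) :
    ∃ w : ↥S.A, orderOf (w : X) = 5 ∧ 4 ∣ Nat.card ↥(centralizer ({(w : X)} : Set X)) := by
  obtain ⟨w, hw, hw2⟩ := exists_cycle S (by norm_num : Nat.Prime 5) (by decide) (by omega)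
  refine ⟨w, hw2, card_dvd S (by omega) w ?_⟩
  rw [Equiv.Perm.nat_card_centralizer, hw]
  obtain ⟨m, rfl⟩ := Nat.exists_eq_add_of_le hn
  have h1 : 9 + m - 5 = m + 4 := by omega
  have h2 : (24 : ℕ) ∣ (m + 4).factorial := (Nat.factorial_dvd_factorial (by omega : 4 ≤ m + 4))
  simp only [Fintype.card_fin, Multiset.sum_singleton, h1, Multiset.prod_singleton]
  exact ((((by norm_num : (2 * 4 : ℕ) ∣ 24).trans h2).trans (Nat.dvd_mul_right _ _)).trans (Nat.dvd_mul_right _ _))

end Cfsg.Agent.H291.RowsA
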