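import Cfsg.Agent.H291.RowsB
import Cfsg.Agent.H729.M22Deg
import Cfsg.Agent.CpAut.TwoOuter
import Cfsg.Agent.CpAut.SmallP.TwoPart

/-!
# The rows `M22`, `J2`, `McL` and the rows excluded by the order (helper291)
-/

set_option autoImplicit false

namespace Cfsg.Agent.H291.RowsC

open Subgroup Equiv Cfsg Cfsg.Agent.H291 Cfsg.Agent.OrdDiv

universe u

variable {X : Type u} [Group X] [Finite X] {n : ℕ}

omit [Finite X] in
/-- elements of `A` commute if their permutations do -/
theorem comm_of (S : AltCore.Sit X n) {a b : ↥S.A}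
    (h : (S.e a : Perm (Fin n)) * S.e b = S.e b * S.e a) : (a : X) * b = b * a := by
  have h1 : S.e a * S.e b = S.e b * S.e a := Subtype.ext h
  rw [← map_mul, ← map_mul] at h1
  exact congrArg Subtype.val (S.e.injective h1)

omit [Finite X] in
/-- `|A_n|` divides `|X|` -/
theorem card_alt_dvd (S : AltCore.Sit X n) (hn : 2 ≤ n) : n.factorial / 2 ∣ Nat.card X := by
  have h : Nat.card ↥S.A = n.factorial / 2 := by
    have : Nontrivial (Fin n) := ⟨⟨⟨0, by omega⟩, ⟨1, by omega⟩, by simp⟩⟩
    rw [Nat.card_congr S.e.toEquiv, nat_card_alternatingGroup, Nat.card_eq_fintype_card, Fintype.card_fin]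
  rw [← h]
  exact card_subgroup_dvd_card _

omit [Finite X] in
/-- `20160` divides `|X|` -/
theorem dvd_eight (S : AltCore.Sit X n) (hn : 8 ≤ n) : 20160 ∣ Nat.card X := by
  refine Dvd.dvd.trans ?_ (card_alt_dvd S (by omega))
  obtain ⟨k, hk⟩ := Nat.factorial_dvd_factorial hn
  rw [hk, show Nat.factorial 8 = 2 * 20160 by decide, mul_assoc, Nat.mul_div_cancel_left _ (by norm_num)]
  exact Nat.dvd_mul_right _ _

omit [Finite X] in
/-- `181440` divides `|X|`, `n ≥ 9` -/
theorem dvd_nine (S : AltCore.Sit X n) (hn : 9 ≤ n) : 181440 ∣ Nat.card X := by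
  refine Dvd.dvd.trans ?_ (card_alt_dvd S (by omega))
  obtain ⟨k, hk⟩ := Nat.factorial_dvd_factorial hn
  rw [hk, show Nat.factorial 9 = 2 * 181440 by decide, mul_assoc, Nat.mul_div_cancel_left _ (by norm_num)]
  exact Nat.dvd_mul_right _ _

omit [Finite X] in
theorem row_m12 (T : OrderTable.{u}) (S : AltCore.Sit X n) (hn : 8 ≤ n) (h : Spor.IsoM12 X) : False := by
  have h1 := dvd_eight S hn
  rw [T.spor X (.m12, 95040) (by decide) h] at h1
  norm_num at h1

omit [Finite X] in
theorem row_j3 (T : OrderTable.{u}) (S : AltCore.Sit X n) (hn : 8 ≤ n) (h : Spor.IsoJ3 X) : False := by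
  have h1 := dvd_eight S hn
  rw [T.spor X (.j3, 50232960) (by decide) h] at h1
  norm_num at h1

/-- `McL`, `n ≥ 9` -/
theorem row_mcl (S : AltCore.Sit X n) (hn : 9 ≤ n) (h : Spor.IsoMcL X) : False := by
  obtain ⟨w, h1, h2⟩ := RowsA.four_dvd S hn
  exact CpAut.SmallP.McL.not_four h h1 h2

omit [Finite X] in
/-- `n ≥ 9`: the groups excluded by the order -/
theorem row_nine (T : OrderTable.{u}) (S : AltCore.Sit X n) (hn : 9 ≤ n)
    (h : Spor.IsoM22 X ∨ Spor.IsoJ2 X ∨ Spor.IsoHS X ∨ Spor.IsoHe X) : False := by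
  have h1 := dvd_nine S hn
  rcases h with h | h | h | h
  · rw [T.spor X (.m22, 443520) (by decide) h] at h1
    norm_num at h1
  · rw [T.spor X (.j2, 604800) (by decide) h] at h1
    norm_num at h1
  · rw [T.spor X (.hs, 44352000) (by decide) h] at h1
    norm_num at h1
  · rw [T.spor X (.he, 4030387200) (by decide) h] at h1
    norm_num at h1

/-- explicit even permutations of eight letters -/
def p1 : Perm (Fin 8) := [0, 1, 2, 3].formPerm * [4, 5].formPerm
/-- explicit even permutations of eight letters -/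
def p2 : Perm (Fin 8) := [4, 5, 6].formPerm
/-- explicit even permutations of eight letters -/
def p3 : Perm (Fin 8) := [0, 1, 2, 3, 4].formPerm
/-- explicit even permutations of eight letters -/
def p4 : Perm (Fin 8) := [5, 6, 7].formPerm
/-- explicit even permutations of eight letters -/
def p5 : Perm (Fin 8) := [1, 4].formPerm * [2, 3].formPerm

theorem p1_mem : p1 ∈ alternatingGroup (Fin 8) := by rw [Equiv.Perm.mem_alternatingGroup]; decide +kernel
theorem p2_mem : p2 ∈ alternatingGroup (Fin 8) := by rw [Equiv.Perm.mem_alternatingGroup]; decide +kernel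
theorem p3_mem : p3 ∈ alternatingGroup (Fin 8) := by rw [Equiv.Perm.mem_alternatingGroup]; decide +kernel
theorem p4_mem : p4 ∈ alternatingGroup (Fin 8) := by rw [Equiv.Perm.mem_alternatingGroup]; decide +kernel
theorem p5_mem : p5 ∈ alternatingGroup (Fin 8) := by rw [Equiv.Perm.mem_alternatingGroup]; decide +kernel

/-- the element of `A` over a permutation -/
noncomputable def el (S : AltCore.Sit X n) {p : Perm (Fin n)} (hp : p ∈ alternatingGroup (Fin n)) : ↥S.A :=
  S.e.symm ⟨p, hp⟩

omit [Finite X] in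
theorem e_el (S : AltCore.Sit X n) {p : Perm (Fin n)} (hp : p ∈ alternatingGroup (Fin n)) :
    S.e (el S hp) = ⟨p, hp⟩ := S.e.apply_symm_apply _

omit [Finite X] in
theorem el_comm (S : AltCore.Sit X n) {p q : Perm (Fin n)} (hp : p ∈ alternatingGroup (Fin n))
    (hq : q ∈ alternatingGroup (Fin n)) (h : p * q = q * p) : (el S hp : X) * el S hq = el S hq * el S hp :=
  comm_of S (by rw [e_el, e_el]; exact h)

omit [Finite X] in
theorem el_pow (S : AltCore.Sit X n) {p : Perm (Fin n)} (hp : p ∈ alternatingGroup (Fin n)) (k : ℕ) :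
    (el S hp : X) ^ k = el S (pow_mem hp k) := by
  have h : (el S hp) ^ k = el S (pow_mem hp k) := by
    apply S.e.injective
    rw [map_pow, e_el, e_el]
    rfl
  rw [← h]; rfl

omit [Finite X] in
theorem el_one (S : AltCore.Sit X n) {p : Perm (Fin n)} (hp : p ∈ alternatingGroup (Fin n)) :
    (el S hp : X) = 1 ↔ p = 1 := by
  constructor
  · intro h
    have h1 : el S hp = 1 := Subtype.ext h
    have h2 := e_el S hp
    rw [h1, map_one] at h2
    exact (congrArg Subtype.val h2).symm
  · rintro rfl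
    have : el S hp = 1 := by
      apply S.e.injective
      rw [e_el, map_one]
      rfl
    rw [this]; rfl

omit [Finite X] in
theorem orderOf_el (S : AltCore.Sit X n) {p : Perm (Fin n)} (hp : p ∈ alternatingGroup (Fin n)) :
    orderOf (el S hp : X) = orderOf p := by
  rw [Subgroup.orderOf_coe, ← MulEquiv.orderOf_eq S.e, e_el, Subgroup.orderOf_mk]

/-- `J2` -/
theorem row_j2 (S : AltCore.Sit X 8) (hout : ∀ k, S.t ≠ MulAut.conj k) (h : Spor.IsoJ2 X) : False := by
  obtain ⟨t, u, Q, v, ρ, D⟩ := Cfsg.Agent.KFacts.J2.Facts.exists_dat_of h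
  have hαα : ∀ x, S.t (S.t x) = x := fun x => DFunLike.congr_fun S.tt x
  set y : X := ↑(el S p1_mem) with hy
  set b : X := ↑(el S p2_mem) with hb
  have hr : orderOf (y * y) = 2 := by
    rw [← pow_two, hy, el_pow, orderOf_el]
    exact orderOf_eq_prime (by decide +kernel) (by decide +kernel)
  have hbr : b * (y * y) = (y * y) * b := by
    rw [← pow_two, hy, el_pow, hb]
    exact el_comm S _ _ (by decide +kernel)
  have hty : S.t (y * y) = y * y := by rw [map_mul, S.fix _ (el S p1_mem).2]
  have htb : S.t b = b := S.fix _ (el S p2_mem).2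
  have hb1 : b ≠ 1 := by
    rw [hb, Ne, el_one]
    decide +kernel
  have hb3 : b ^ 3 = 1 := by
    rw [hb, el_pow, el_one]
    decide +kernel
  rcases D.F.cover (y * y) hr with h1 | h1
  · have h2 := CpAutTwo.JTwo.pow_two_pow D hout hαα h1 hty htb hbr
    apply hb1
    have h3 : b ^ (3 * 21 + 1) = 1 := h2
    rwa [pow_add, pow_mul, hb3, one_pow, one_mul, pow_one] at h3
  · exact CpAutTwo.JTwo.no_sqrt D h1 y rfl

/-- `M22`, `n = 8` -/
theorem row_m22 (T : OrderTable.{u}) (S : AltCore.Sit X 8) (h : Spor.IsoM22 X) : False := by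
  have h5 : ¬ 5 ^ 2 ∣ Nat.card X := by
    rw [T.spor X (.m22, 443520) (by decide) h]
    norm_num
  obtain ⟨e⟩ := h
  obtain ⟨x, hx, hc⟩ := Cfsg.Agent.H729.M22Deg.exists_five
  have : Finite Spor.M22 := Finite.of_equiv _ e.toEquiv
  have h5' : ¬ 5 ^ 2 ∣ Nat.card Spor.M22 := by rwa [← Nat.card_congr e.toEquiv]
  set w : Spor.M22 := e (el S p3_mem) with hw
  set u : Spor.M22 := e (el S p4_mem) with hu
  set z : Spor.M22 := e (el S p5_mem) with hz
  have hwo : orderOf w = 5 := by
    rw [hw, MulEquiv.orderOf_eq, orderOf_el]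
    have : Fact (Nat.Prime 5) := ⟨by norm_num⟩
    exact orderOf_eq_prime (by decide +kernel) (by decide +kernel)
  have huw : u * w = w * u := by
    rw [hu, hw, ← map_mul, ← map_mul, el_comm S _ _ (by decide +kernel)]
  have huo : orderOf u = 3 := by
    rw [hu, MulEquiv.orderOf_eq, orderOf_el]
    have : Fact (Nat.Prime 3) := ⟨by norm_num⟩
    exact orderOf_eq_prime (by decide +kernel) (by decide +kernel)
  have hzo : orderOf z = 2 := by
    rw [hz, MulEquiv.orderOf_eq, orderOf_el]
    exact orderOf_eq_prime (by decide +kernel) (by decide +kernel)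
  have hzw : z * w * z⁻¹ = w⁻¹ := by
    have h1 : (el S p5_mem : X) * el S p3_mem = (el S p3_mem : X) ^ 4 * el S p5_mem := by
      rw [el_pow]
      have h2 : el S p5_mem * el S p3_mem = el S (pow_mem p3_mem 4) * el S p5_mem := by
        apply S.e.injective
        rw [map_mul, map_mul, e_el, e_el, e_el]
        exact Subtype.ext (by change p5 * p3 = p3 ^ 4 * p5; decide +kernel)
      exact congrArg Subtype.val h2
    have h3 : z * w = w ^ 4 * z := by
      rw [hz, hw, ← map_mul, h1, map_mul, map_pow]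
    have h4 : w ^ 4 = w⁻¹ := by
      rw [eq_inv_iff_mul_eq_one, ← pow_succ]
      have h5 := pow_orderOf_eq_one w
      rwa [hwo] at h5
    rw [h3, h4, mul_inv_cancel_right]
  obtain ⟨g, k, hg⟩ := CpAut.SmallP.Singer.exists_conj_pow (by norm_num : Nat.Prime 5) h5' hwo hx
  -- the normalizer of `⟨x⟩`
  have hz5 : zpowers (g * w * g⁻¹) = zpowers x := by
    apply Subgroup.eq_of_le_of_card_ge
    · rw [zpowers_le, hg]
      exact pow_mem (mem_zpowers x) k
    · rw [Nat.card_zpowers, Nat.card_zpowers, hx]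
      have : orderOf (g * w * g⁻¹) = 5 := by
        rw [← hwo]
        exact MulEquiv.orderOf_eq (MulAut.conj g) w
      rw [this]
  have hN : ∀ a : Spor.M22, (a * w * a⁻¹ = w ∨ a * w * a⁻¹ = w⁻¹) →
      g * a * g⁻¹ ∈ normalizer (zpowers x : Set Spor.M22) := by
    intro a ha
    have h1 : ∀ c ∈ zpowers x, (g * a * g⁻¹) * c * (g * a * g⁻¹)⁻¹ ∈ zpowers x := by
      intro c hc
      rw [← hz5] at hc ⊢
      obtain ⟨m, rfl⟩ := mem_zpowers_iff.1 hc
      have h2 : (g * a * g⁻¹) * (g * w * g⁻¹) ^ m * (g * a * g⁻¹)⁻¹ = (g * (a * w * a⁻¹) * g⁻¹) ^ m := by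
        rw [← conj_zpow]
        congr 1
        group
      rw [h2]
      rcases ha with ha | ha
      · rw [ha]
        exact zpow_mem (mem_zpowers _) m
      · rw [ha]
        have h3 : g * w⁻¹ * g⁻¹ = (g * w * g⁻¹)⁻¹ := by group
        rw [h3]
        exact zpow_mem (inv_mem (mem_zpowers _)) m
    exact mem_normalizer_fintype h1
  have hc1 := hN w (Or.inl (by group))
  have hc2 := hN u (Or.inl (by rw [huw, mul_inv_cancel_right]))
  have hc3 := hN z (Or.inr hzw)
  have hdvd : ∀ a : Spor.M22, g * a * g⁻¹ ∈ normalizer (zpowers x : Set Spor.M22) →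
      orderOf a ∣ Nat.card ↥(normalizer (zpowers x : Set Spor.M22)) := by
    intro a ha
    have h1 : orderOf (⟨g * a * g⁻¹, ha⟩ : ↥(normalizer (zpowers x : Set Spor.M22))) = orderOf a := by
      rw [Subgroup.orderOf_mk]
      exact MulEquiv.orderOf_eq (MulAut.conj g) a
    rw [← h1]
    exact orderOf_dvd_natCard _
  have d5 := hdvd w hc1
  have d3 := hdvd u hc2
  have d2 := hdvd z hc3
  rw [hwo] at d5
  rw [huo] at d3
  rw [hzo] at d2
  have d30 : 30 ∣ Nat.card ↥(normalizer (zpowers x : Set Spor.M22)) := by omega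
  have hle : Nat.card ↥(normalizer (zpowers x : Set Spor.M22)) ≤
      Nat.card {z : Spor.M22 // ∃ j ∈ Finset.Ico 1 5, z * x = x ^ j * z} := by
    have : Finite {z : Spor.M22 // ∃ j ∈ Finset.Ico 1 5, z * x = x ^ j * z} := Subtype.finite
    refine Nat.card_le_card_of_injective (fun a => ⟨a.1, ?_⟩) (fun a b hab => Subtype.ext (Subtype.mk.inj hab))
    have h1 := (mem_normalizer_iff.1 a.2 x).1 (mem_zpowers x)
    have h2 := ((isOfFinOrder_of_finite x).mem_zpowers_iff_mem_range_orderOf).1 h1
    rw [Finset.mem_image] at h2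
    obtain ⟨j, hj, hj2⟩ := h2
    rw [Finset.mem_range, hx] at hj
    refine ⟨j, Finset.mem_Ico.2 ⟨?_, hj⟩, ?_⟩
    · rcases Nat.eq_zero_or_pos j with h0 | h0
      · exfalso
        rw [h0, pow_zero] at hj2
        have h3 : x = 1 := by
          have h4 : x = (a.1)⁻¹ * (a.1 * x * (a.1)⁻¹) * a.1 := by group
          rw [h4, ← hj2]
          group
        rw [h3, orderOf_one] at hx
        norm_num at hx
      · exact h0
    · rw [hj2]
      group
  have h6 := Nat.le_of_dvd Nat.card_pos d30
  omega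

end Cfsg.Agent.H291.RowsC
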