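import Cfsg.Agent.H291.AltCore
import Cfsg.Agent.CpAut.Base
import Cfsg.Agent.SignalizersComponents.ComponentImage
import Cfsg.Agent.CTwoTab.Kinds
import Cfsg.Agent.CpQuot.Congr

/-!
# Simple components of `C_X(t)` for `X` with `AutC 2 X` (helper291)

`inC_of_autC` : if the components of `C_X(t) / O(C_X(t))` are `C₂`-groups, so are the simple components of `C_X(t)`.
-/

set_option autoImplicit false

namespace Cfsg.Agent.H291.RowsD

open Subgroup Cfsg Cfsg.Agent Cfsg.Agent.CpAut

universe u

/-- the simple components of `C_X(t)` are `C₂`-groups -/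
theorem inC_of_autC {X : Type u} [Group X] [Finite X] (h : AutC 2 X) {t : MulAut X} (ht : orderOf t = 2)
    {A : Subgroup ↥(fixedSubgroup t)} (hA : IsComponent A) (hs : IsSimpleGroup ↥A) (h2 : 2 ∣ Nat.card ↥A) :
    InC 2 ↥A := by
  have hn : (pPrimeCore 2 ↥(fixedSubgroup t)).Normal := Lib.Cores.pPrimeCore_normal 2
  let f : ↥(fixedSubgroup t) →* ↥(fixedSubgroup t) ⧸ pPrimeCore 2 ↥(fixedSubgroup t) :=
    QuotientGroup.mk' (pPrimeCore 2 ↥(fixedSubgroup t))
  have hf : Function.Surjective f := QuotientGroup.mk'_surjective _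
  have hnt : Nontrivial ↥A := hs.toNontrivial
  have hinj : Function.Injective (f.comp A.subtype) := by
    rw [← MonoidHom.ker_eq_bot_iff]
    rcases (inferInstance : (f.comp A.subtype).ker.Normal).eq_bot_or_eq_top with h1 | h1
    · exact h1
    · exfalso
      have h3 : A ≤ pPrimeCore 2 ↥(fixedSubgroup t) := by
        intro a ha
        have h4 : (⟨a, ha⟩ : ↥A) ∈ (f.comp A.subtype).ker := by rw [h1]; exact mem_top _
        exact (QuotientGroup.eq_one_iff _).1 h4
      have h5 := Lib.Cores.pPrimeCore_coprime (G := ↥(fixedSubgroup t)) 2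
      have h6 : (Nat.card ↥A) ∣ Nat.card ↥(pPrimeCore 2 ↥(fixedSubgroup t)) := card_dvd_of_le h3
      exact Nat.not_coprime_of_dvd_of_dvd (by norm_num) (h2.trans h6) (dvd_refl 2) h5
  have hr : (f.comp A.subtype).range = A.map f := by
    rw [MonoidHom.range_comp, range_subtype]
  have e : ↥A ≃* ↥(A.map f) := (MonoidHom.ofInjective hinj).trans (MulEquiv.subgroupCongr hr)
  rcases SignalizersComponents.ComponentImage.map_eq_bot_or_isComponent hf hA with h1 | h1
  · exfalso
    rw [h1] at e
    have h3 := e.toEquiv.nontrivial_congr.1 hnt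
    exact not_nontrivial _ h3
  · exact (CpQuot.Congr.inC_iff e 2).2 (h t ht _ h1)

end Cfsg.Agent.H291.RowsD
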