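import Cfsg.Agent.H291.TwentyFourBase
import Cfsg.Agent.HN.AutHS
import Cfsg.Prelude.Def_Spor_Conway

/-!
# A maximal subgroup of order 144: not `HS` (helper291)

In `HS` an involution of class 2B centralizes a subgroup of order 9.
-/

set_option autoImplicit false

namespace Cfsg.Agent.H291.TwentyFourHS

open Cfsg Subgroup Cfsg.Agent.SporadicA.PermTab Cfsg.Agent.HN.HS100 Cfsg.Agent.H291.TwentyFourBase

/-- data -/
def tWi : ℕ := 0xc01383083a05e0fc128450b81002e8580920582804f0200ec2905505c18c2d0590181201a03502a088068320be0702204b0bc1881e05b0a20f80000403a01c1205708e158148420861502982d0100801884d0720841b84606c1280d80106007c2600304c0380581a04e0481c0230661040782b0540601e8280280080882c0320140b81303c02804806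
/-- data -/
def tA : ℕ := 0x740b0318380be1301402f0881782681d0ba0d82a81f0c40f81d8420001480685a004128248480080180781207807820858046138108010301841880506402c110340100280804f0400b81a8530560941985708c114038470280b40885c0261402001503605c0605100612c0703f0a816c1e83904c0702c8090ac0dc0c82905409c3002403405821830
/-- data -/
def tB : ℕ := 0x5a1681103a0820ec1f82f0241442c04e0280a01701f0981343101e09e1640e81800e128248480060381385b0861401583e0160340203c0580d40106101815c3003406e0240b03004006c0285e0be0e40502302a018188170ac0e01205c026108290260aa0f414853042094228360a81102384b08c03c200330ba064040320200703181a0220a800800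

theorem inYi : InG Q tYi := by
  apply InG.word (L := [tY, tY, tY, tY, tY])
  · intro P hP
    simp only [List.mem_cons, List.not_mem_nil, or_false] at hP
    rcases hP with rfl | rfl | rfl | rfl | rfl
    all_goals first | exact inX | exact inY | exact inW | exact inYi | exact inWi
  · decide +kernel

theorem inWi : InG Q tWi := by
  apply InG.word (L := [tW, tW, tW, tW, tW])
  · intro P hP
    simp only [List.mem_cons, List.not_mem_nil, or_false] at hP
    rcases hP with rfl | rfl | rfl | rfl | rfl
    all_goals first | exact inX | exact inY | exact inW | exact inYi | exact inWi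
  · decide +kernel

theorem inA : InG Q tA := by
  apply InG.word (L := [tY, tX, tYi, tX, tY, tY, tX, tYi, tX, tY])
  · intro P hP
    simp only [List.mem_cons, List.not_mem_nil, or_false] at hP
    rcases hP with rfl | rfl | rfl | rfl | rfl | rfl | rfl | rfl | rfl | rfl
    all_goals first | exact inX | exact inY | exact inW | exact inYi | exact inWi
  · decide +kernel

theorem inB : InG Q tB := by
  apply InG.word (L := [tY, tX, tY, tWi, tX, tW, tYi, tX, tYi, tX, tY, tX, tY, tWi])
  · intro P hP
    simp only [List.mem_cons, List.not_mem_nil, or_false] at hP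
    rcases hP with rfl | rfl | rfl | rfl | rfl | rfl | rfl | rfl | rfl | rfl | rfl | rfl | rfl | rfl
    all_goals first | exact inX | exact inY | exact inW | exact inYi | exact inWi
  · decide +kernel

theorem chk (f : ℕ → Bool) (h : allB f 100 = true) (i : Fin 100) : f i = true := (allB_iff _ _).1 h i i.2

/-- commutation of table elements -/
theorem comm {s t : Equiv.Perm (Fin 100)} {S T : ℕ} (hs : ∀ i, (s i : ℕ) = lk S i) (ht : ∀ i, (t i : ℕ) = lk T i)
    (h : allB (fun i => Nat.beq (lk S (lk T i)) (lk T (lk S i))) 100 = true) : s * t = t * s := by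
  refine Equiv.ext fun i => Fin.ext ?_
  change (s (t i) : ℕ) = t (s i)
  rw [hs, ht, ht, hs]
  exact Nat.eq_of_beq_eq_true (chk _ h i)

theorem three {s : Equiv.Perm (Fin 100)} {S : ℕ} (hs : ∀ i, (s i : ℕ) = lk S i)
    (h : allB (fun i => Nat.beq (lk S (lk S (lk S i))) i) 100 = true) : s ^ 3 = 1 := by
  refine Equiv.ext fun i => Fin.ext ?_
  change (s (s (s i)) : ℕ) = i
  rw [hs, hs, hs]
  exact Nat.eq_of_beq_eq_true (chk _ h i)

theorem not_hs {G : Type*} [Group G] (h : Dat G) : ¬ Spor.IsoHS G := by
  rintro ⟨e⟩
  obtain ⟨⟨f⟩, -⟩ := Cfsg.Agent.HN.AutHS.nonempty_Q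
  have hQ := h.congr (e.trans f.symm)
  obtain ⟨a, ha, hai⟩ := inA
  obtain ⟨b, hb, hbi⟩ := inB
  obtain ⟨z, hz, hzi⟩ := inX
  have : Fact (Nat.Prime 3) := ⟨Nat.prime_three⟩
  have ha3 : orderOf (⟨a, ha⟩ : Q) = 3 := by
    apply orderOf_eq_prime
    · exact Subtype.ext (three hai (by decide +kernel))
    · intro h1
      have h4 := hai 0
      rw [show a = 1 from congrArg Subtype.val h1] at h4
      exact absurd h4 (by decide +kernel)
  have hb3 : orderOf (⟨b, hb⟩ : Q) = 3 := by
    apply orderOf_eq_prime
    · exact Subtype.ext (three hbi (by decide +kernel))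
    · intro h1
      have h4 := hbi 2
      rw [show b = 1 from congrArg Subtype.val h1] at h4
      exact absurd h4 (by decide +kernel)
  have key := hQ.pair (a := ⟨a, ha⟩) (b := ⟨b, hb⟩) (z := ⟨z, hz⟩) ha3 hb3 (Subtype.ext (comm hai hbi (by decide +kernel)))
    ?_ (Subtype.ext (comm hzi hai (by decide +kernel))) (Subtype.ext (comm hzi hbi (by decide +kernel)))
  · have h5 : z ^ 3 = 1 := congrArg Subtype.val key
    have h6 : ((z ^ 3) 0 : ℕ) = 0 := by rw [h5]; rfl
    change (z (z (z 0)) : ℕ) = 0 at h6
    rw [hzi, hzi, hzi] at h6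
    exact absurd h6 (by decide +kernel)
  · rw [mem_zpowers_iff_mem_range_orderOf, ha3]
    simp only [Finset.mem_image, Finset.mem_range, not_exists, not_and]
    intro k hk hkb
    have h7 : a ^ k = b := congrArg Subtype.val hkb
    have h8 : ((a ^ k) 2 : ℕ) = lk tB (2 : Fin 100) := by rw [h7]; exact hbi 2
    interval_cases k
    · rw [pow_zero] at h8
      exact absurd h8 (by decide +kernel)
    · rw [pow_one, hai] at h8
      exact absurd h8 (by decide +kernel)
    · change (a (a 2) : ℕ) = _ at h8
      rw [hai, hai] at h8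
      exact absurd h8 (by decide +kernel)

end Cfsg.Agent.H291.TwentyFourHS
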